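import Cfsg.Agent.H126.PwO.Nu
import Cfsg.Agent.H962.PP.Conj

/-!
# S4173, orthogonal groups: the eigenvalue `ε = ± 1`, polynomials

* `cop_of_eps` : `charpoly X = (T - ε) f`, `ε ^ 2 = 1`: criterion for `Cop X h`.
* `cyc_of_irr` : a matrix with irreducible characteristic polynomial is cyclic.
* `exists_rp_one`, `exists_rp_neg`, `exists_rp_gen` : polynomials of norm `1`, `-1`, a generator.
-/

set_option autoImplicit false
set_option linter.unusedSectionVars false

namespace Cfsg.Agent.H140.TC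

open QuadraticMap Matrix Polynomial Cfsg.Agent.LieClassical.OrthCore Cfsg.Agent.LieClassical.OrthTrans
  Cfsg.Agent.LieClassical.OrthFinite Cfsg.Agent.H140.OreO Cfsg.Agent.H126.PwO Cfsg.Agent.H962.PP

variable {F V : Type*} [Field F] [AddCommGroup V] [Module F V] {n : ℕ} {Q : QuadraticForm F V}

/-- alternating intertwiners, `ε` a simple eigenvalue -/
theorem alt_eps {A B : Matrix (Fin n) (Fin n) F} {ε : F} {f P : F[X]} (hA : aeval A ((X - C ε) * f) = 0)
    (hf1 : f.eval ε ≠ 0) (hE : Module.finrank F (Module.End.eigenspace (toLin' A) ε) ≤ 1)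
    (hB : aeval B P = 0) (hfP : IsCoprime f P) (φ : (Fin n → F) →ₗ[F] (Fin n → F))
    (h0 : ∀ a, a ⬝ᵥ φ a = 0) (hφ : ∀ a, φ (A *ᵥ a) = B *ᵥ φ a) : φ = 0 := by
  have hanti : ∀ a b, a ⬝ᵥ φ b = - (b ⬝ᵥ φ a) := by
    intro a b
    have h1 := h0 (a + b)
    rw [map_add, add_dotProduct, dotProduct_add, dotProduct_add, h0, h0, zero_add, add_zero] at h1
    exact eq_neg_of_add_eq_zero_left h1
  have hint : ∀ (c : F[X]) a, φ (aeval (toLin' A) c a) = aeval (toLin' B) c (φ a) := fun c a =>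
    intertwine φ (toLin' A) (toLin' B) hφ c a
  have hker : ∀ a, aeval (toLin' A) f a = 0 → φ a = 0 := by
    intro a ha
    apply inj_of_coprime hB hfP
    rw [← hint, ha, map_zero]
  have hA' : aeval (toLin' A) ((X - C ε) * f) = 0 := by rw [aeval_toLin', hA, map_zero]
  have hcop : IsCoprime (X - C ε : F[X]) f := by
    rw [(irreducible_X_sub_C ε).coprime_iff_not_dvd, dvd_iff_isRoot]
    exact hf1
  obtain ⟨r, s, hrs⟩ := hcop
  obtain ⟨e, he⟩ := finrank_le_one_iff.1 hE
  -- decomposition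
  have hdec : ∀ a, ∃ t : F, ∃ a₀, φ a₀ = 0 ∧ a = a₀ + t • (e : Fin n → F) := by
    intro a
    have h1 : aeval (toLin' A) (s * f) a ∈ Module.End.eigenspace (toLin' A) ε := by
      rw [Module.End.mem_eigenspace_iff]
      have h2 : aeval (toLin' A) (X - C ε : F[X]) (aeval (toLin' A) (s * f) a) = 0 := by
        rw [← Module.End.mul_apply, ← map_mul]
        have h3 : (X - C ε) * (s * f) = s * ((X - C ε) * f) := by ring
        rw [h3, map_mul, hA', mul_zero, LinearMap.zero_apply]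
      rw [map_sub, aeval_X, aeval_C, LinearMap.sub_apply, Module.algebraMap_end_apply, sub_eq_zero] at h2
      exact h2
    obtain ⟨t, ht⟩ := he ⟨_, h1⟩
    refine ⟨t, aeval (toLin' A) (r * (X - C ε)) a, hker _ ?_, ?_⟩
    · rw [← Module.End.mul_apply, ← map_mul]
      have h3 : f * (r * (X - C ε)) = r * ((X - C ε) * f) := by ring
      rw [h3, map_mul, hA', mul_zero, LinearMap.zero_apply]
    · have h4 : t • (e : Fin n → F) = aeval (toLin' A) (s * f) a := congrArg Subtype.val ht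
      rw [h4, ← LinearMap.add_apply, ← map_add, hrs, map_one, Module.End.one_apply]
  have he0 : φ e = 0 := by
    rw [← dotProduct_eq_zero_iff]
    intro b
    obtain ⟨t, b₀, hb₀, rfl⟩ := hdec b
    rw [dotProduct_comm, hanti, map_add, hb₀, zero_add, map_smul, dotProduct_smul, h0, smul_zero, neg_zero]
  apply LinearMap.ext
  intro a
  obtain ⟨t, a₀, ha₀, rfl⟩ := hdec a
  rw [map_add, ha₀, map_smul, he0, smul_zero, add_zero, LinearMap.zero_apply]

theorem finrank_eig_eps {A : Matrix (Fin n) (Fin n) F} {ε : F} {f : F[X]} (hA : A.charpoly = (X - C ε) * f)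
    (hf1 : f.eval ε ≠ 0) : Module.finrank F (Module.End.eigenspace (toLin' A) ε) ≤ 1 := by
  refine (LinearMap.finrank_eigenspace_le _ _).trans ?_
  have hf0 : f ≠ 0 := by rintro rfl; rw [eval_zero] at hf1; exact hf1 rfl
  have h0 : (X - C ε : F[X]) * f ≠ 0 := mul_ne_zero (X_sub_C_ne_zero ε) hf0
  rw [Matrix.charpoly_toLin', hA, rootMultiplicity_mul h0, rootMultiplicity_X_sub_C_self,
    rootMultiplicity_eq_zero (by exact hf1)]

/-- the reverse of `(X - ε) f` -/
theorem rev_eps {ε : F} (hε : ε * ε = 1) (f : F[X]) :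
    ((X - C ε) * f : F[X]).reverse = - (C ε * ((X - C ε) * f.reverse)) := by
  have h1 : (C ε * C ε : F[X]) = 1 := by rw [← C_mul, hε, C_1]
  rw [reverse_mul_of_domain, reverse_lin]
  linear_combination (-f.reverse) * h1

/-- **`ε = ± 1` is a simple eigenvalue of `X`.** -/
theorem cop_of_eps {A : GL (Fin n) F} {h : V ≃ₗ[F] V} {ε : F} (hε : ε * ε = 1) {f : F[X]}
    (hA : (A : Matrix (Fin n) (Fin n) F).charpoly = (X - C ε) * f)
    (hf1 : f.eval ε ≠ 0) (hf : IsCoprime f f.reverse) (h0 : Un (h : Module.End F V) (X - C ε))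
    (h1 : Un (h : Module.End F V) f) (h2 : Un (h : Module.End F V) f.reverse) : Cop A h := by
  have hε0 : ε ≠ 0 := by rintro rfl; simp at hε
  have hP : aeval (A : Matrix (Fin n) (Fin n) F) ((X - C ε) * f) = 0 := by
    rw [← hA]; exact aeval_self_charpoly _
  have hP' : aeval (ti A : Matrix (Fin n) (Fin n) F) ((X - C ε) * f.reverse) = 0 := by
    have h3 := aeval_ti_reverse A
    rw [hA, rev_eps hε, map_neg, neg_eq_zero, map_mul, aeval_C] at h3
    have h4 : ((X - C ε) * f.reverse : F[X]) = C ε * (C ε * ((X - C ε) * f.reverse)) := by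
      have h1 : (C ε * C ε : F[X]) = 1 := by rw [← C_mul, hε, C_1]
      linear_combination (-((X - C ε) * f.reverse)) * h1
    rw [h4, map_mul, map_mul (aeval (ti A : Matrix (Fin n) (Fin n) F)) (C ε), aeval_C, h3, mul_zero]
  have hcf : IsCoprime f (X - C ε : F[X]) := by
    have h3 : IsCoprime (X - C ε : F[X]) f := by
      rw [(irreducible_X_sub_C ε).coprime_iff_not_dvd, dvd_iff_isRoot]
      exact hf1
    exact h3.symm
  have hr1 : f.reverse.eval ε ≠ 0 := by
    let _ : Invertible (ε : F) := invertibleOfNonzero hε0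
    have h3 := eval₂_reverse_mul_pow (RingHom.id F) (ε : F) f
    have h4 : ⅟ε = ε := by rw [invOf_eq_inv]; exact inv_eq_of_mul_eq_one_left hε
    rw [h4] at h3
    intro h5
    change eval₂ (RingHom.id F) ε f.reverse = 0 at h5
    rw [h5, zero_mul] at h3
    exact hf1 h3.symm
  have hcf' : IsCoprime f.reverse (X - C ε : F[X]) := by
    have h3 : IsCoprime (X - C ε : F[X]) f.reverse := by
      rw [(irreducible_X_sub_C ε).coprime_iff_not_dvd, dvd_iff_isRoot]
      exact hr1
    exact h3.symm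
  have c1 : IsCoprime f ((X - C ε) * f.reverse) := IsCoprime.mul_right hcf hf
  have c2 : IsCoprime f.reverse ((X - C ε) * f) := IsCoprime.mul_right hcf' hf.symm
  have hE' : Module.finrank F (Module.End.eigenspace (toLin' (ti A : Matrix (Fin n) (Fin n) F)) ε) ≤ 1 := by
    have h3 : Module.End.eigenspace (toLin' (ti A : Matrix (Fin n) (Fin n) F)) ε =
        Module.End.eigenspace (toLin' (A : Matrix (Fin n) (Fin n) F)ᵀ) ε := by
      have h4 : (A : Matrix (Fin n) (Fin n) F)ᵀ * (ti A : Matrix (Fin n) (Fin n) F) = 1 := (ti A).inv_val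
      have h5 : (ti A : Matrix (Fin n) (Fin n) F) * (A : Matrix (Fin n) (Fin n) F)ᵀ = 1 := (ti A).val_inv
      ext a
      rw [Module.End.mem_eigenspace_iff, Module.End.mem_eigenspace_iff, toLin'_apply, toLin'_apply]
      constructor
      · intro h6
        have h7 : (A : Matrix (Fin n) (Fin n) F)ᵀ *ᵥ ((ti A : Matrix (Fin n) (Fin n) F) *ᵥ a) = a := by
          rw [mulVec_mulVec, h4, one_mulVec]
        rw [h6, mulVec_smul] at h7
        have h8 := congrArg (fun v => ε • v) h7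
        simp only [smul_smul, hε, one_smul] at h8
        exact h8
      · intro h6
        have h7 : (ti A : Matrix (Fin n) (Fin n) F) *ᵥ ((A : Matrix (Fin n) (Fin n) F)ᵀ *ᵥ a) = a := by
          rw [mulVec_mulVec, h5, one_mulVec]
        rw [h6, mulVec_smul] at h7
        have h8 := congrArg (fun v => ε • v) h7
        simp only [smul_smul, hε, one_smul] at h8
        exact h8
    rw [h3]
    apply finrank_eig_eps (f := f) _ hf1
    rw [charpoly_transpose, hA]
  have u1 : Un (h : Module.End F V) ((X - C ε) * f) := by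
    rw [Un, map_mul]
    exact h0.mul h1
  have u2 : Un (h : Module.End F V) ((X - C ε) * f.reverse) := by
    rw [Un, map_mul]
    exact h0.mul h2
  refine ⟨fun f' hf' => ?_, fun f' hf' => ?_, fun f' h0 hf' => ?_, fun f' hf' => ?_, fun f' hf' => ?_,
    fun f' h0 hf' => ?_⟩
  · apply LinearMap.ext
    intro a
    apply inj_of_unit u1
    have := intertwine f' (Matrix.toLin' (A : Matrix (Fin n) (Fin n) F)) (h : Module.End F V) hf'
      ((X - C ε) * f) a
    rw [← this, aeval_toLin', hP, map_zero, LinearMap.zero_apply, map_zero]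
  · apply LinearMap.ext
    intro v
    obtain ⟨w, rfl⟩ := surj_of_unit u2 v
    have := intertwine f' (h : Module.End F V) (Matrix.toLin' (ti A : Matrix (Fin n) (Fin n) F)) hf'
      ((X - C ε) * f.reverse) w
    rw [this, aeval_toLin', hP', map_zero, LinearMap.zero_apply, LinearMap.zero_apply]
  · exact alt_eps hP hf1 (finrank_eig_eps hA hf1) hP' c1 f' h0 hf'
  · apply LinearMap.ext
    intro a
    apply inj_of_unit u2
    have := intertwine f' (Matrix.toLin' (ti A : Matrix (Fin n) (Fin n) F)) (h : Module.End F V) hf'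
      ((X - C ε) * f.reverse) a
    rw [← this, aeval_toLin', hP', map_zero, LinearMap.zero_apply, map_zero]
  · apply LinearMap.ext
    intro v
    obtain ⟨w, rfl⟩ := surj_of_unit u1 v
    have := intertwine f' (h : Module.End F V) (Matrix.toLin' (A : Matrix (Fin n) (Fin n) F)) hf'
      ((X - C ε) * f) w
    rw [this, aeval_toLin', hP, map_zero, LinearMap.zero_apply, LinearMap.zero_apply]
  · exact alt_eps hP' hr1 hE' hP c2 f' h0 hf'

/-! ### polynomials -/

/-- irreducible polynomials prime to their reciprocal -/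
structure RP {F : Type*} [Field F] (d : ℕ) (f : F[X]) : Prop where
  monic : f.Monic
  irr : Irreducible f
  deg : f.natDegree = d
  cop : IsCoprime f f.reverse

theorem RP.coeff_ne {d : ℕ} {f : F[X]} (h : RP d f) (hd : 2 ≤ d) : f.coeff 0 ≠ 0 :=
  coeff_zero_ne h.irr (by rw [h.deg]; exact hd)

theorem RP.eval_ne {d : ℕ} {f : F[X]} (h : RP d f) (hd : 2 ≤ d) (x : F) : f.eval x ≠ 0 :=
  eval_ne_zero h.irr (by rw [h.deg]; exact hd) x

/-- the reciprocal polynomial -/
theorem RP.dual {d : ℕ} {f : F[X]} (h : RP d f) (hd : 2 ≤ d) :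
    ∃ g : F[X], RP d g ∧ g.coeff 0 * f.coeff 0 = 1 ∧ (∀ p : F[X], IsCoprime f.reverse p → IsCoprime g p) ∧
      (∀ p : F[X], IsCoprime f p → IsCoprime g.reverse p) := by
  have h0 := h.coeff_ne hd
  have hu : IsUnit (C (f.coeff 0)⁻¹ : F[X]) := isUnit_C.2 (inv_ne_zero h0).isUnit
  have hlc : f.reverse.leadingCoeff = f.coeff 0 := by
    rw [reverse_leadingCoeff, trailingCoeff, natTrailingDegree_eq_zero_of_constantCoeff_ne_zero h0]
  have hrev : (C (f.coeff 0)⁻¹ * f.reverse).reverse = C (f.coeff 0)⁻¹ * f := by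
    rw [reverse_mul_of_domain, rev_rev h0, reverse_C]
  have c1 : ∀ p : F[X], IsCoprime f.reverse p → IsCoprime (C (f.coeff 0)⁻¹ * f.reverse) p := fun p hp =>
    (isCoprime_mul_unit_left_left hu _ _).2 hp
  have c2 : ∀ p : F[X], IsCoprime f p → IsCoprime (C (f.coeff 0)⁻¹ * f) p := fun p hp =>
    (isCoprime_mul_unit_left_left hu _ _).2 hp
  refine ⟨C (f.coeff 0)⁻¹ * f.reverse, ⟨?_, ?_, ?_, ?_⟩, ?_, c1, by rw [hrev]; exact c2⟩
  · rw [Monic, leadingCoeff_mul, leadingCoeff_C, hlc, inv_mul_cancel₀ h0]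
  · exact (irreducible_isUnit_mul hu).2 (irreducible_rev h.irr h0)
  · rw [natDegree_C_mul (inv_ne_zero h0), natDegree_rev h0, h.deg]
  · rw [hrev]
    exact c1 _ (c2 _ h.cop).symm
  · rw [mul_coeff_zero, coeff_C_zero, coeff_zero_reverse, h.monic.leadingCoeff, mul_one, inv_mul_cancel₀ h0]

/-- irreducible characteristic polynomial: cyclic -/
theorem cyc_of_irr {m : ℕ} (hm : 0 < m) {x : Matrix (Fin m) (Fin m) F} (h : Irreducible x.charpoly) : Cyc x := by
  have i : Fin m := ⟨0, hm⟩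
  refine ⟨Pi.single i 1, li_of_poly fun g hg hgm => ?_⟩
  by_contra hg0
  have hdeg : g.natDegree < x.charpoly.natDegree := by
    rw [x.charpoly_natDegree_eq_dim, Fintype.card_fin]
    rw [degree_eq_natDegree hg0] at hg
    exact_mod_cast hg
  have hcop : IsCoprime x.charpoly g := by
    rw [h.coprime_iff_not_dvd]
    intro hd
    have := natDegree_le_of_dvd hd hg0
    omega
  obtain ⟨a, b, hab⟩ := hcop
  have h1 := congrArg (fun p => (aeval x p) *ᵥ (Pi.single i 1 : Fin m → F)) hab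
  simp only [map_add, map_mul, map_one, aeval_self_charpoly, mul_zero, zero_add, one_mulVec,
    ← mulVec_mulVec, hgm, mulVec_zero] at h1
  have h2 := congrFun h1 i
  simp at h2

theorem geom_lt {q d k : ℕ} (hq : 2 ≤ q) (hk : k < d) (_ : 1 ≤ d) :
    q ^ k < (q ^ d - 1) / (q - 1) + 1 ∧ q ^ k ≤ (q ^ d - 1) / (q - 1) := by
  have h1 : (q - 1) * q ^ k ≤ q ^ d - 1 := by
    have h2 : q ^ (k + 1) ≤ q ^ d := Nat.pow_le_pow_right (by omega) hk
    have h3 : 1 ≤ q ^ k := Nat.one_le_pow _ _ (by omega)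
    have h4 : (q - 1) * q ^ k + q ^ k = q ^ (k + 1) := by
      obtain ⟨r, rfl⟩ : ∃ r, q = r + 1 := ⟨q - 1, by omega⟩
      simp only [Nat.add_sub_cancel]
      ring
    omega
  have h5 : q ^ k ≤ (q ^ d - 1) / (q - 1) := by
    rw [Nat.le_div_iff_mul_le (by omega), mul_comm]
    exact h1
  exact ⟨by omega, h5⟩

/-- `(q ^ d - 1) / (q - 1) ≥ q ^ (d - 1) + q` for `d ≥ 3` -/
theorem geom_ge {q d : ℕ} (hq : 2 ≤ q) (hd : 3 ≤ d) : q ^ (d - 1) + q ≤ (q ^ d - 1) / (q - 1) := by
  rw [Nat.le_div_iff_mul_le (by omega)]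
  obtain ⟨e, rfl⟩ : ∃ e, d = e + 3 := ⟨d - 3, by omega⟩
  obtain ⟨r, rfl⟩ : ∃ r, q = r + 1 := ⟨q - 1, by omega⟩
  have h1 : (r + 1) ^ (e + 3) = (r + 1) * (r + 1) ^ (e + 2) := by ring
  have h2 : (r + 1) ^ (e + 2) = (r + 1) ^ 2 * (r + 1) ^ e := by ring
  have h3 : 1 ≤ (r + 1) ^ e := Nat.one_le_pow _ _ (by omega)
  have h4 : e + 3 - 1 = e + 2 := by omega
  rw [h4, Nat.add_sub_cancel]
  have h5 : (r + 1) ^ 2 ≤ (r + 1) ^ (e + 2) := by rw [h2]; nlinarith [Nat.one_le_pow 2 (r + 1) (by omega)]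
  have h6 : ((r + 1) ^ (e + 2) + (r + 1)) * r + 1 ≤ (r + 1) ^ (e + 3) := by
    rw [h1]
    nlinarith
  omega

theorem not_dvd_of_lt {s a : ℕ} (h : a < s) (h0 : 0 < a) : ¬ s ∣ a := fun hd => by
  have := Nat.le_of_dvd h0 hd
  omega

/-- norm `1` -/
theorem exists_rp_one (F : Type*) [Field F] [Finite F] {d : ℕ} (hd : 3 ≤ d) :
    ∃ f : F[X], RP d f ∧ (-1) ^ d * f.coeff 0 = 1 := by
  have hq : 2 ≤ Nat.card F := Finite.one_lt_card
  have hs : (Nat.card F ^ d - 1) / (Nat.card F - 1) ∣ Nat.card F ^ d - 1 := by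
    apply Nat.div_dvd_of_dvd
    simpa using Nat.sub_dvd_pow_sub_pow (Nat.card F) 1 d
  have hge := geom_ge hq hd
  have hpow : ∀ k, k < d → Nat.card F ^ k ≤ Nat.card F ^ (d - 1) := fun k hk =>
    Nat.pow_le_pow_right (by omega) (by omega)
  obtain ⟨f, hf⟩ := exists_pol F (by omega) hs (fun k hk hkd => by
    have h1 := hpow k hkd
    have h2 : 2 ≤ Nat.card F ^ k := by
      calc 2 ≤ Nat.card F ^ 1 := by simpa using hq
        _ ≤ _ := Nat.pow_le_pow_right (by omega) hk
    exact not_dvd_of_lt (by omega) (by omega))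
  refine ⟨f, ⟨hf.monic, hf.irr, hf.deg, hf.cop fun i hi => ?_⟩, ?_⟩
  · have h1 := hpow i hi
    exact not_dvd_of_lt (by omega) (by omega)
  · have := (hf.coef 1).2 (by rw [mul_one])
    rwa [pow_one] at this

/-- norm `-1` -/
theorem exists_rp_neg (F : Type*) [Field F] [Finite F] (hodd : Odd (Nat.card F)) {d : ℕ}
    (hd : 2 ≤ d) : ∃ f : F[X], RP d f ∧ (-1) ^ d * f.coeff 0 = -1 := by
  have hq : 2 ≤ Nat.card F := Finite.one_lt_card
  obtain ⟨a, ha⟩ := hodd
  obtain ⟨M, hM⟩ : Nat.card F - 1 ∣ Nat.card F ^ d - 1 := by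
    simpa using Nat.sub_dvd_pow_sub_pow (Nat.card F) 1 d
  have hM' : (Nat.card F ^ d - 1) / (Nat.card F - 1) = M := by
    rw [hM, Nat.mul_div_cancel_left _ (by omega)]
  have hMge : ∀ k, k < d → Nat.card F ^ k ≤ M := fun k hk => by
    rw [← hM']
    exact (geom_lt hq hk (by omega)).2
  have hM0 : 0 < M := lt_of_lt_of_le Nat.one_pos (by simpa using hMge 0 (by omega))
  have hs : 2 * M ∣ Nat.card F ^ d - 1 := by
    rw [hM]
    exact Nat.mul_dvd_mul_right ⟨a, by omega⟩ M
  obtain ⟨f, hf⟩ := exists_pol F (by omega) hs (fun k hk hkd => by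
    have h1 := hMge k hkd
    have h2 : 2 ≤ Nat.card F ^ k := by
      calc 2 ≤ Nat.card F ^ 1 := by simpa using hq
        _ ≤ _ := Nat.pow_le_pow_right (by omega) hk
    exact not_dvd_of_lt (by omega) (by omega))
  refine ⟨f, ⟨hf.monic, hf.irr, hf.deg, hf.cop fun i hi => ?_⟩, ?_⟩
  · have h1 := hMge i hi
    have h3 := hMge 1 (by omega)
    rw [pow_one] at h3
    exact not_dvd_of_lt (by omega) (by omega)
  · have c2 := (hf.coef 2).2 (by rw [hM', mul_comm])
    have c1 : ¬ ((-1) ^ d * f.coeff 0) ^ 1 = 1 := by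
      rw [hf.coef 1, hM', mul_one]
      intro h
      have := Nat.le_of_dvd hM0 h
      omega
    rw [pow_one] at c1
    have c3 : ((-1) ^ d * f.coeff 0 - 1) * ((-1) ^ d * f.coeff 0 + 1) = 0 := by linear_combination c2
    rcases mul_eq_zero.1 c3 with h | h
    · exact absurd (sub_eq_zero.1 h) c1
    · exact eq_neg_of_add_eq_zero_left h

/-- norm a generator -/
theorem exists_rp_gen (F : Type*) [Field F] [Finite F] {d : ℕ} (hd : 2 ≤ d) (h : 3 ≤ d ∨ 3 ≤ Nat.card F) :
    ∃ f : F[X], RP d f ∧ (∀ k, ((-1) ^ d * f.coeff 0) ^ k = 1 ↔ Nat.card F - 1 ∣ k) := by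
  have hq : 2 ≤ Nat.card F := Finite.one_lt_card
  obtain ⟨M, hM⟩ : Nat.card F - 1 ∣ Nat.card F ^ d - 1 := by
    simpa using Nat.sub_dvd_pow_sub_pow (Nat.card F) 1 d
  have hM' : (Nat.card F ^ d - 1) / (Nat.card F - 1) = M := by
    rw [hM, Nat.mul_div_cancel_left _ (by omega)]
  have hM0 : 0 < M := by
    rw [← hM']
    have := (geom_lt hq (show 0 < d by omega) (by omega)).2
    rw [pow_zero] at this
    exact this
  have hpow : ∀ k, k < d → Nat.card F ^ k ≤ Nat.card F ^ (d - 1) := fun k hk =>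
    Nat.pow_le_pow_right (by omega) (by omega)
  have h1 : Nat.card F ^ d = Nat.card F * Nat.card F ^ (d - 1) := by
    rw [← pow_succ', Nat.sub_add_cancel (by omega)]
  have h2 : Nat.card F ^ (d - 1) + 2 < Nat.card F ^ d := by
    rw [h1]
    rcases h with h | h
    · have h3 : 2 ^ 2 ≤ Nat.card F ^ (d - 1) :=
        (Nat.pow_le_pow_left hq 2).trans (Nat.pow_le_pow_right (by omega) (by omega))
      nlinarith
    · have h3 : 3 ^ 1 ≤ Nat.card F ^ (d - 1) :=
        (Nat.pow_le_pow_left h 1).trans (Nat.pow_le_pow_right (by omega) (by omega))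
      nlinarith
  obtain ⟨f, hf⟩ := exists_pol F (by omega) (dvd_refl (Nat.card F ^ d - 1)) (fun k hk hkd => by
    have h3 := hpow k hkd
    have h2 : 2 ≤ Nat.card F ^ k := by
      calc 2 ≤ Nat.card F ^ 1 := by simpa using hq
        _ ≤ _ := Nat.pow_le_pow_right (by omega) hk
    exact not_dvd_of_lt (by omega) (by omega))
  refine ⟨f, ⟨hf.monic, hf.irr, hf.deg, hf.cop fun i hi => ?_⟩, fun k => ?_⟩
  · have h3 := hpow i hi
    exact not_dvd_of_lt (by omega) (by omega)
  · rw [hf.coef k, hM', hM, mul_comm M k]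
    exact Nat.mul_dvd_mul_iff_right hM0

end Cfsg.Agent.H140.TC
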