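import Cfsg.Agent.H140.TC.Corner
import Cfsg.Agent.H126.PwO.Asm
import Cfsg.Agent.H141.SpinLev
import Cfsg.Agent.H962.PP.Conj
import Cfsg.Agent.ClassicalGeometry.WittQuad

/-!
# S4173, orthogonal groups: two fixed classes

`TwoOf Q x₀ y₀` : every nonscalar `g ∈ Ω` is a product of an `Ω`-conjugate of `x₀` and one of `y₀`.
`twoOf` : `x₀ = lev (diag (ε, B)) x`, `y₀ = lev (diag (δ, D)) x⁻¹`.
-/

set_option autoImplicit false
set_option linter.unusedSectionVars false

namespace Cfsg.Agent.H140.TC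

open Module QuadraticMap Matrix Polynomial Cfsg.Agent.LieClassical.OrthCore Cfsg.Agent.LieClassical.OrthTrans
  Cfsg.Agent.LieClassical.OrthFinite Cfsg.Agent.H140.OreO Cfsg.Agent.H126.PwO Cfsg.Agent.H962.PP
  Cfsg.Agent.H141.SpinFacts
open Cfsg.Agent.H434.Corn (MaxTS)

variable {F V : Type*} [Field F] [AddCommGroup V] [Module F V] {Q : QuadraticForm F V}

/-- two fixed classes -/
def TwoOf (Q : QuadraticForm F V) (x₀ y₀ : V ≃ₗ[F] V) : Prop :=
  ∀ g ∈ Om Q, (∀ c : F, ∃ v, g v ≠ c • v) → ∃ u ∈ Om Q, ∃ v ∈ Om Q, g = (u * x₀ * u⁻¹) * (v * y₀ * v⁻¹)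

/-! ### frames are conjugate -/

theorem li_frame {m : ℕ} {e e' : Fin m → V} (hf : Frame Q e e') : LinearIndependent F (Fin.append e e') := by
  rw [Fintype.linearIndependent_iff]
  intro c hc
  rw [Fin.sum_univ_add] at hc
  simp only [Fin.append_left, Fin.append_right] at hc
  have h1 : ∀ j, c (Fin.castAdd m j) = 0 := by
    intro j
    have h2 := hf.polar_sum_l (fun i => c (Fin.castAdd m i)) j
    have h3 := hf.polar_sum_rr (fun i => c (Fin.natAdd m i)) j
    have h4 : polar Q (∑ i, c (Fin.castAdd m i) • e i + ∑ i, c (Fin.natAdd m i) • e' i) (e' j) = 0 := by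
      rw [hc, polar_zero_left]
    rw [polar_add_left, h2, h3, add_zero] at h4
    exact h4
  have h1' : ∀ j, c (Fin.natAdd m j) = 0 := by
    intro j
    have h2 := hf.polar_sum_ll (fun i => c (Fin.castAdd m i)) j
    have h3 := hf.polar_sum_r (fun i => c (Fin.natAdd m i)) j
    have h4 : polar Q (∑ i, c (Fin.castAdd m i) • e i + ∑ i, c (Fin.natAdd m i) • e' i) (e j) = 0 := by
      rw [hc, polar_zero_left]
    rw [polar_add_left, h2, h3, zero_add] at h4
    exact h4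
  intro i
  exact Fin.addCases h1 h1' i

theorem frame_trans [FiniteDimensional F V] (hQ : Nondeg Q) {m : ℕ} {e e' w w' : Fin m → V} (hf : Frame Q e e')
    (hf' : Frame Q w w') : ∃ T ∈ O Q, (∀ i, T (e i) = w i) ∧ ∀ i, T (e' i) = w' i := by
  have hnd : (polarBilin Q).Nondegenerate :=
    ⟨fun x h => hQ x h, fun y h => hQ y fun x => by rw [polar_comm]; exact h x⟩
  obtain ⟨T, hT, hT'⟩ := ClassicalGeometry.WittQuad.extend_family Q hnd (m + m) (Fin.append e e') (Fin.append w w')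
    (li_frame hf) (li_frame hf') (fun i => by
      refine Fin.addCases (fun i => ?_) (fun i => ?_) i
      · rw [Fin.append_left, Fin.append_left, hf.sl, hf'.sl]
      · rw [Fin.append_right, Fin.append_right, hf.sr, hf'.sr]) (fun i j => by
      simp only [polarBilin_apply_apply]
      refine Fin.addCases (fun i => ?_) (fun i => ?_) i <;> refine Fin.addCases (fun j => ?_) (fun j => ?_) j
      · rw [Fin.append_left, Fin.append_left, Fin.append_left, Fin.append_left, hf.ll, hf'.ll]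
      · rw [Fin.append_left, Fin.append_right, Fin.append_left, Fin.append_right, hf.lr, hf'.lr]
      · rw [Fin.append_left, Fin.append_right, Fin.append_left, Fin.append_right, polar_comm Q (e' i),
          polar_comm Q (w' i), hf.lr, hf'.lr]
      · rw [Fin.append_right, Fin.append_right, Fin.append_right, Fin.append_right, hf.rr, hf'.rr])
  refine ⟨T, hT, fun i => ?_, fun i => ?_⟩
  · have := hT' (Fin.castAdd m i)
    rwa [Fin.append_left, Fin.append_left] at this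
  · have := hT' (Fin.natAdd m i)
    rwa [Fin.append_right, Fin.append_right] at this

/-! ### the classes are invariant under the whole orthogonal group -/

theorem conj_O [FiniteDimensional F V] (hG : Good Q) {x₀ : V ≃ₗ[F] V} (hx₀ : x₀ ∈ O Q) {a b : V} (hab : Hyp Q a b)
    {ε : F} (ha : x₀ a = ε • a) (hb : x₀ b = ε • b) {T : V ≃ₗ[F] V} (hT : T ∈ O Q) :
    ∃ u ∈ Om Q, T * x₀ * T⁻¹ = u * x₀ * u⁻¹ := by
  have ha0 : a ≠ 0 := by
    rintro rfl
    have := hab.pair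
    rw [polar_zero_left] at this
    exact zero_ne_one this
  have hε : ε ≠ 0 := by
    rintro rfl
    rw [zero_smul] at ha
    exact ha0 (x₀.map_eq_zero_iff.1 ha)
  let C : Subgroup (O Q) := Subgroup.centralizer {⟨x₀, hx₀⟩}
  have hC : ∀ h : O Q, h ∈ C ↔ x₀ * (h : V ≃ₗ[F] V) = h * x₀ := by
    intro h
    rw [Subgroup.mem_centralizer_singleton_iff]
    constructor
    · intro h1
      exact (congrArg Subtype.val h1).symm
    · intro h1
      exact Subtype.ext h1.symm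
  have key := pj_mem hG (C.map (pj Q)) (fun v hv => by
    have hv' : Q (a + Q v • b) = Q v := by
      rw [Q_add, hab.left, QuadraticMap.map_smul, hab.right, polar_smul_right, hab.pair]
      simp
    have hv0 : Q (a + Q v • b) ≠ 0 := by rw [hv']; exact hv
    refine ⟨rO Q _ hv0, ?_, (pj_rO_eq hG hv hv0 ⟨1, by rw [hv', one_mul, one_mul]⟩).symm⟩
    rw [SetLike.mem_coe, hC]
    have h1 : x₀ (a + Q v • b) = ε • (a + Q v • b) := by
      rw [map_add, map_smul, ha, hb, smul_add, smul_comm]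
    have h2 : Q (x₀ (a + Q v • b)) ≠ 0 := by rw [mem_O.1 hx₀]; exact hv0
    have h3 := refl_conj hx₀ hv0 h2
    have h4 : refl Q (x₀ (a + Q v • b)) h2 = refl Q (a + Q v • b) hv0 := by
      have h5 : Q (ε • (a + Q v • b)) ≠ 0 := by rw [← h1]; exact h2
      rw [← refl_smul hv0 hε h5]
      congr 1
    rw [h4] at h3
    exact mul_inv_eq_iff_eq_mul.1 h3) ⟨T, hT⟩
  obtain ⟨h, hhC, hh⟩ := key
  have h1 : x₀ * (h : V ≃ₗ[F] V) = h * x₀ := (hC h).1 hhC
  have h2 : pj Q (⟨T, hT⟩ * h⁻¹) = 1 := by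
    rw [map_mul, map_inv, hh, mul_inv_cancel]
  rw [pj_eq_one_iff] at h2
  refine ⟨T * (h : V ≃ₗ[F] V)⁻¹, h2, ?_⟩
  have h3 : (h : V ≃ₗ[F] V)⁻¹ * x₀ * h = x₀ := by rw [mul_assoc, h1, ← mul_assoc, inv_mul_cancel, one_mul]
  conv_lhs => rw [← h3]
  group

/-! ### the engine -/

variable {k : ℕ}

theorem single_of_blk {ε : F} {B : Matrix (Fin k) (Fin k) F} :
    blk ε B *ᵥ Pi.single 0 1 = ε • (Pi.single 0 1 : Fin (k + 1) → F) := by
  ext i
  rw [mulVec_single_one]
  refine Fin.cases ?_ (fun i => ?_) i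
  · simp
  · simp [col_apply, Fin.succ_ne_zero]

theorem single_of_blkT {ε : F} {B : Matrix (Fin k) (Fin k) F} :
    (blk ε B)ᵀ *ᵥ Pi.single 0 1 = ε • (Pi.single 0 1 : Fin (k + 1) → F) := by
  ext i
  rw [mulVec_single_one]
  refine Fin.cases ?_ (fun i => ?_) i
  · simp
  · simp [col_apply, Fin.succ_ne_zero]

theorem ti_single {ε : F} (hε : ε * ε = 1) {B : Matrix (Fin k) (Fin k) F} {X : GL (Fin (k + 1)) F}
    (hX : (X : Matrix (Fin (k + 1)) (Fin (k + 1)) F) = blk ε B) :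
    (ti X : Matrix (Fin (k + 1)) (Fin (k + 1)) F) *ᵥ Pi.single 0 1 = ε • (Pi.single 0 1 : Fin (k + 1) → F) := by
  have h1 : (ti X : Matrix (Fin (k + 1)) (Fin (k + 1)) F) * (X : Matrix (Fin (k + 1)) (Fin (k + 1)) F)ᵀ = 1 :=
    (ti X).val_inv
  have h2 := congrArg (fun M => M *ᵥ (Pi.single 0 1 : Fin (k + 1) → F)) h1
  simp only [one_mulVec] at h2
  rw [← mulVec_mulVec, hX, single_of_blkT, mulVec_smul] at h2
  rw [← h2, smul_smul, h2, hε, one_smul]

/-- the pull back of `lev X x` scales the first hyperbolic pair -/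
theorem scale_l {w w' : Fin (k + 1) → V} (hf : Frame Q w w') {ε : F} {B : Matrix (Fin k) (Fin k) F}
    {X : GL (Fin (k + 1)) F} (hX : (X : Matrix (Fin (k + 1)) (Fin (k + 1)) F) = blk ε B)
    (x : perp Q w w' ≃ₗ[F] perp Q w w') : (autE hf.toModel).symm (lev X x) (w 0) = ε • w 0 := by
  have h1 : hf.toModel.symm (Pi.single 0 1, 0, 0) = w 0 := by
    rw [hf.toModel_symm_apply]
    simp [Pi.single_apply]
  have h2 : hf.toModel (w 0) = (Pi.single 0 1, 0, 0) := by rw [← h1, LinearEquiv.apply_symm_apply]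
  show hf.toModel.symm (lev X x (hf.toModel (w 0))) = _
  rw [h2, lev_apply, hX, single_of_blk, map_zero, mulVec_zero]
  have h3 : ((ε • (Pi.single 0 1 : Fin (k + 1) → F), (0 : perp Q w w'), (0 : Fin (k + 1) → F)) :
      M F (perp Q w w') (k + 1)) = ε • (Pi.single 0 1, 0, 0) := by
    simp [Prod.smul_mk]
  rw [h3, map_smul, h1]

theorem scale_r {w w' : Fin (k + 1) → V} (hf : Frame Q w w') {ε : F} (hε : ε * ε = 1) {B : Matrix (Fin k) (Fin k) F}
    {X : GL (Fin (k + 1)) F} (hX : (X : Matrix (Fin (k + 1)) (Fin (k + 1)) F) = blk ε B)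
    (x : perp Q w w' ≃ₗ[F] perp Q w w') : (autE hf.toModel).symm (lev X x) (w' 0) = ε • w' 0 := by
  have h1 : hf.toModel.symm (0, 0, Pi.single 0 1) = w' 0 := by
    rw [hf.toModel_symm_apply]
    simp [Pi.single_apply]
  have h2 : hf.toModel (w' 0) = (0, 0, Pi.single 0 1) := by rw [← h1, LinearEquiv.apply_symm_apply]
  show hf.toModel.symm (lev X x (hf.toModel (w' 0))) = _
  rw [h2, lev_apply, ti_single hε hX, map_zero, mulVec_zero]
  have h3 : (((0 : Fin (k + 1) → F), (0 : perp Q w w'), ε • (Pi.single 0 1 : Fin (k + 1) → F)) :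
      M F (perp Q w w') (k + 1)) = ε • (0, 0, Pi.single 0 1) := by
    simp [Prod.smul_mk]
  rw [h3, map_smul, h1]

section Fin

variable [Finite F] [FiniteDimensional F V]

/-- **The engine for two fixed classes.** -/
theorem twoOf (hQ : Nondeg Q) (hk : 1 ≤ k) (hW : ∀ W, MaxTS Q W → finrank F W = k + 2) {e e' : Fin (k + 2) → V}
    (hf : Frame Q e e') {ε δ : F} (hε : ε * ε = 1) (hδ : δ * δ = 1) {B D : Matrix (Fin (k + 1)) (Fin (k + 1)) F}
    (hB : Cyc B) (hD : Cyc D) (hBe : B.charpoly.eval ε ≠ 0) (hDe : D.charpoly.eval δ ≠ 0)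
    (hdet : (ε * B.det) * (δ * D.det) = 1) {x : perp Q e e' ≃ₗ[F] perp Q e e'} (hx : x ∈ O (res Q e e'))
    (hc1 : CopP (k + 2) ((X - C ε) * B.charpoly) x) (hc2 : CopP (k + 2) ((X - C δ) * D.charpoly) x⁻¹)
    {X₀ Y₀ : GL (Fin (k + 2)) F} (hX₀ : (X₀ : Matrix (Fin (k + 2)) (Fin (k + 2)) F) = blk ε B)
    (hY₀ : (Y₀ : Matrix (Fin (k + 2)) (Fin (k + 2)) F) = blk δ D) :
    TwoOf Q ((autE hf.toModel).symm (lev X₀ x)) ((autE hf.toModel).symm (lev Y₀ x⁻¹)) := by
  intro g hg hns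
  have hfr := hf.finrank_perp
  have hG : Good Q := good_of_finite hQ (by omega)
  have he : ∀ v, MQ (k + 2) (res Q e e') (hf.toModel v) = Q v := hf.MQ_toModel
  obtain ⟨w, w', hfw, hS, hAdet, hA⟩ := nsCorner hQ hg hns (by omega) hW
  obtain ⟨T, hT, hTl, hTr⟩ := frame_trans hQ hf hfw
  obtain ⟨g', hg'⟩ : ∃ g', g' = T⁻¹ * g * T := ⟨_, rfl⟩
  have hTi : ∀ v v', T⁻¹ v = v' ↔ v = T v' := fun v v' => LinearEquiv.symm_apply_eq T
  have hg'a : ∀ v, T (g' v) = g (T v) := by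
    intro v
    rw [hg']
    exact T.apply_symm_apply _
  have hgO : g ∈ O Q := Om_le hg
  have hg'O : g' ∈ O Q := by
    rw [hg']
    exact (O Q).mul_mem ((O Q).mul_mem ((O Q).inv_mem hT) hgO) hT
  -- the frame `e, e'` for `g'`
  have hcor : corner Q g' e e' = corner Q g w w' := by
    ext i j
    rw [corner_apply, corner_apply, ← polar_map hT, hg'a, hTl, hTr]
  have hS' : SchurOne Q g' e e' := by
    intro v hv
    have hTv : T v ∈ perp Q w w' := by
      intro i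
      rw [← hTl, ← hTr, polar_map hT, polar_map hT]
      exact hv i
    obtain ⟨c, d, hcd⟩ := hS (T v) hTv
    refine ⟨c, d, ?_⟩
    apply T.injective
    have e1 : T (v + ∑ i, c i • e i) = T v + ∑ i, c i • w i := by
      rw [map_add, map_sum]
      simp only [map_smul, hTl]
    have e2 : T (v + ∑ i, d i • e' i) = T v + ∑ i, d i • w' i := by
      rw [map_add, map_sum]
      simp only [map_smul, hTr]
    rw [hg'a, e1, e2, hcd]
  have hAne : (corner Q g w w').det ≠ 0 := by rw [hAdet]; exact one_ne_zero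
  obtain ⟨A, hAe⟩ : ∃ A : GL (Fin (k + 2)) F, (A : Matrix _ _ F) = corner Q g w w' :=
    ⟨Matrix.GeneralLinearGroup.mkOfDetNeZero _ hAne, rfl⟩
  -- the model
  obtain ⟨u₁, hu₁, g₁, hg₁, u₂, hu₂, edec⟩ := decomp ((autE_mem_O he).2 hg'O) A (fun a => by
    rw [corner_model, hcor, hAe])
  have h1 : g₁ = 1 := by
    apply LinearEquiv.ext
    intro v
    obtain ⟨c, d, hcd⟩ := schur_model hf hS' v
    exact schur_one_of hu₁ hu₂ edec hcd
  -- the factorisation of the corner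
  have hBd : B.det ≠ 0 := by
    intro h0
    rw [h0] at hdet
    simp at hdet
  have hDd : D.det ≠ 0 := by
    intro h0
    rw [h0] at hdet
    simp at hdet
  have hε0 : ε ≠ 0 := by rintro rfl; simp at hε
  have hδ0 : δ ≠ 0 := by rintro rfl; simp at hδ
  obtain ⟨P, R, hP, hR, hPR⟩ := exists_mul_conj_blk (corner Q g w w') (fun c hc => hA c (by
    rw [hc, scalar_apply, smul_one_eq_diagonal])) ε B hB hBd hε0 hBe δ D hD hDd hδ0 hDe (by rw [hAdet, hdet])
  obtain ⟨P', hP'⟩ : ∃ P' : GL (Fin (k + 2)) F, (P' : Matrix _ _ F) = P :=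
    ⟨Matrix.GeneralLinearGroup.mkOfDetNeZero P (by rw [hP]; exact one_ne_zero), rfl⟩
  obtain ⟨R', hR'⟩ : ∃ R' : GL (Fin (k + 2)) F, (R' : Matrix _ _ F) = R :=
    ⟨Matrix.GeneralLinearGroup.mkOfDetNeZero R (by rw [hR]; exact one_ne_zero), rfl⟩
  have hPi : ((P'⁻¹ : GL (Fin (k + 2)) F) : Matrix _ _ F) = P⁻¹ := by
    rw [Matrix.coe_units_inv, hP']
  have hRi : ((R'⁻¹ : GL (Fin (k + 2)) F) : Matrix _ _ F) = R⁻¹ := by
    rw [Matrix.coe_units_inv, hR']
  have hAXY : A = (P' * X₀ * P'⁻¹) * (R' * Y₀ * R'⁻¹) := by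
    apply Units.ext
    simp only [Units.val_mul]
    rw [hPi, hRi, hP', hR', hX₀, hY₀, hAe, hPR]
  have hPu : IsUnit P.det := by rw [hP]; exact isUnit_one
  have hRu : IsUnit R.det := by rw [hR]; exact isUnit_one
  have hXx : Cop (P' * X₀ * P'⁻¹) x := by
    apply hc1
    rw [← blk_charpoly]
    simp only [Units.val_mul]
    rw [hPi, hP', hX₀]
    have := Matrix.charpoly_units_conj P' (blk ε B)
    rw [hP'] at this
    rw [← this]
  have hYy : Cop (R' * Y₀ * R'⁻¹) x⁻¹ := by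
    apply hc2
    rw [← blk_charpoly]
    simp only [Units.val_mul]
    rw [hRi, hR', hY₀]
    have := Matrix.charpoly_units_conj R' (blk δ D)
    rw [hR'] at this
    rw [← this]
  obtain ⟨v₁, hv₁, v₂, hv₂, e2⟩ := stepPr hu₁ hu₂ hAXY (g₁ := g₁) (x := x) (y := x⁻¹) (by rw [h1, mul_inv_cancel])
    hx ((O _).inv_mem hx) hXx hYy
  rw [← edec] at e2
  have e3 : ∀ (Z W : GL (Fin (k + 2)) F) (z : perp Q e e' ≃ₗ[F] perp Q e e'),
      lev (Z * W * Z⁻¹) z = lev Z 1 * lev W z * (lev Z 1)⁻¹ := by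
    intro Z W z
    rw [← lev_inv, ← lev_mul, ← lev_mul, one_mul, inv_one, mul_one]
  rw [e3, e3] at e2
  -- back to `V`
  have back : ∀ s ∈ Om (MQ (k + 2) (res Q e e')), (autE hf.toModel).symm s ∈ O Q := by
    intro s hs
    rw [← autE_mem_O he, MulEquiv.apply_symm_apply]
    exact Om_le hs
  have backL : ∀ Z : GL (Fin (k + 2)) F, (autE hf.toModel).symm (lev Z (1 : perp Q e e' ≃ₗ[F] perp Q e e')) ∈ O Q := by
    intro Z
    rw [← autE_mem_O he, MulEquiv.apply_symm_apply]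
    exact lev_mem (O _).one_mem
  have backX : (autE hf.toModel).symm (lev X₀ x) ∈ O Q := by
    rw [← autE_mem_O he, MulEquiv.apply_symm_apply]
    exact lev_mem hx
  have backY : (autE hf.toModel).symm (lev Y₀ x⁻¹) ∈ O Q := by
    rw [← autE_mem_O he, MulEquiv.apply_symm_apply]
    exact lev_mem ((O _).inv_mem hx)
  obtain ⟨s₁, hs₁⟩ : ∃ s, s = T * (autE hf.toModel).symm v₁ * (autE hf.toModel).symm (lev P' 1) := ⟨_, rfl⟩
  obtain ⟨s₂, hs₂⟩ : ∃ s, s = T * (autE hf.toModel).symm v₂ * (autE hf.toModel).symm (lev R' 1) := ⟨_, rfl⟩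
  have hs₁O : s₁ ∈ O Q := by
    rw [hs₁]
    exact (O Q).mul_mem ((O Q).mul_mem hT (back _ hv₁)) (backL _)
  have hs₂O : s₂ ∈ O Q := by
    rw [hs₂]
    exact (O Q).mul_mem ((O Q).mul_mem hT (back _ hv₂)) (backL _)
  have e4 : g = (s₁ * (autE hf.toModel).symm (lev X₀ x) * s₁⁻¹) *
      (s₂ * (autE hf.toModel).symm (lev Y₀ x⁻¹) * s₂⁻¹) := by
    have e5 : g' = (autE hf.toModel).symm (v₁ * (lev P' 1 * lev X₀ x * (lev P' 1)⁻¹) * v₁⁻¹ *
        (v₂ * (lev R' 1 * lev Y₀ x⁻¹ * (lev R' 1)⁻¹) * v₂⁻¹)) := by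
      rw [← e2, MulEquiv.symm_apply_apply]
    have e6 : g = T * g' * T⁻¹ := by rw [hg']; group
    rw [e6, e5, hs₁, hs₂]
    simp only [map_mul, map_inv]
    group
  have hyp : Hyp Q (e 0) (e' 0) := ⟨hf.sl 0, hf.sr 0, by rw [hf.lr]; simp⟩
  obtain ⟨u, hu, eu⟩ := conj_O hG backX hyp (scale_l hf hX₀ x) (scale_r hf hε hX₀ x) hs₁O
  obtain ⟨v, hv, ev⟩ := conj_O hG backY hyp (scale_l hf hY₀ x⁻¹) (scale_r hf hδ hY₀ x⁻¹) hs₂O
  exact ⟨u, hu, v, hv, by rw [e4, eu, ev]⟩

end Fin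

end Cfsg.Agent.H140.TC
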