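import Cfsg.Agent.H140.TC.Engine
import Cfsg.Agent.H140.TC.Cop
import Cfsg.Agent.H295.War.Witt
import Cfsg.Agent.H434.OreBridge

/-!
# S4173, the orthogonal groups (two fixed classes)

* `TC G` : there are two conjugacy classes whose product contains all nonidentity elements.
* `tc_odd`, `tc_plus`, `tc_minus`.
-/

set_option autoImplicit false
set_option linter.unusedSectionVars false
set_option linter.dupNamespace false

namespace Cfsg.Agent.H140.TC

open Module QuadraticMap Matrix Polynomial Cfsg.Agent.LieClassical.OrthCore Cfsg.Agent.LieClassical.OrthTrans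
  Cfsg.Agent.LieClassical.OrthFinite Cfsg.Agent.LieClassical.OrthForms Cfsg.Agent.H140.OreO Cfsg.Agent.H126.PwO
  Cfsg.Agent.H962.PP Cfsg.Agent.H141.SpinFacts Cfsg.Agent.H160.QSpin
open Cfsg.Agent.H434.Corn (MaxTS)

/-- two conjugacy classes whose product contains all nonidentity elements -/
def TC (G : Type*) [Group G] : Prop :=
  ∃ a b : G, ∀ g : G, g ≠ 1 → ∃ u v : G, g = (u * a * u⁻¹) * (v * b * v⁻¹)

theorem TC.classes {G : Type*} [Group G] (h : TC G) :
    ∃ C₁ C₂ : ConjClasses G, ∀ g : G, g ≠ 1 → ∃ x ∈ C₁.carrier, ∃ y ∈ C₂.carrier, g = x * y := by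
  obtain ⟨a, b, h⟩ := h
  refine ⟨ConjClasses.mk a, ConjClasses.mk b, fun g hg => ?_⟩
  obtain ⟨u, v, e⟩ := h g hg
  refine ⟨u * a * u⁻¹, ?_, v * b * v⁻¹, ?_, e⟩
  · rw [ConjClasses.mem_carrier_iff_mk_eq, ConjClasses.mk_eq_mk_iff_isConj]
    exact isConj_iff.2 ⟨u⁻¹, by group⟩
  · rw [ConjClasses.mem_carrier_iff_mk_eq, ConjClasses.mk_eq_mk_iff_isConj]
    exact isConj_iff.2 ⟨v⁻¹, by group⟩

theorem TC.of_equiv {G H : Type*} [Group G] [Group H] (e : G ≃* H) (h : TC H) : TC G := by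
  obtain ⟨a, b, h⟩ := h
  refine ⟨e.symm a, e.symm b, fun g hg => ?_⟩
  obtain ⟨u, v, e'⟩ := h (e g) (by
    intro h1
    exact hg (e.injective (by rw [h1, map_one])))
  refine ⟨e.symm u, e.symm v, ?_⟩
  apply e.injective
  rw [e']
  simp

/-- two fixed classes for isometries -/
def Two {F V : Type*} [Field F] [AddCommGroup V] [Module F V] (Q : QuadraticForm F V) : Prop :=
  ∃ x₀ ∈ Om Q, ∃ y₀ ∈ Om Q, TwoOf Q x₀ y₀

theorem tc_of_two {ι : Type} [Fintype ι] [DecidableEq ι] {F : Type*} [Field F] (Q : QuadraticForm F (ι → F))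
    (h : Two Q) : TC (Cfsg.POmega F ⇑Q) := by
  obtain ⟨x₀, hx₀, y₀, hy₀, h⟩ := h
  refine ⟨QuotientGroup.mk ((omegaEquiv Q).symm ⟨x₀, hx₀⟩), QuotientGroup.mk ((omegaEquiv Q).symm ⟨y₀, hy₀⟩),
    fun g hg => ?_⟩
  obtain ⟨g, rfl⟩ := QuotientGroup.mk_surjective g
  have hs : ∀ c : F, ∃ v, (omegaEquiv Q g : (ι → F) ≃ₗ[F] (ι → F)) v ≠ c • v := by
    by_contra hs
    push Not at hs
    obtain ⟨c, hc⟩ := hs
    apply hg
    have hcen : g ∈ Subgroup.center (Cfsg.Omega F ⇑Q) := by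
      rw [Subgroup.mem_center_iff]
      intro k
      apply (omegaEquiv Q).injective
      rw [map_mul, map_mul]
      apply Subtype.ext
      apply LinearEquiv.ext
      intro v
      show (omegaEquiv Q k : (ι → F) ≃ₗ[F] (ι → F)) ((omegaEquiv Q g : (ι → F) ≃ₗ[F] (ι → F)) v) =
        (omegaEquiv Q g : (ι → F) ≃ₗ[F] (ι → F)) ((omegaEquiv Q k : (ι → F) ≃ₗ[F] (ι → F)) v)
      rw [hc, hc, map_smul]
    exact (QuotientGroup.eq_one_iff g).2 hcen
  obtain ⟨u, hu, v, hv, e⟩ := h _ (omegaEquiv Q g).2 hs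
  refine ⟨QuotientGroup.mk ((omegaEquiv Q).symm ⟨u, hu⟩), QuotientGroup.mk ((omegaEquiv Q).symm ⟨v, hv⟩), ?_⟩
  have e2 : g = ((omegaEquiv Q).symm ⟨u, hu⟩ * (omegaEquiv Q).symm ⟨x₀, hx₀⟩ * ((omegaEquiv Q).symm ⟨u, hu⟩)⁻¹) *
      ((omegaEquiv Q).symm ⟨v, hv⟩ * (omegaEquiv Q).symm ⟨y₀, hy₀⟩ * ((omegaEquiv Q).symm ⟨v, hv⟩)⁻¹) := by
    apply (omegaEquiv Q).injective
    simp only [map_mul, map_inv, MulEquiv.apply_symm_apply]
    exact Subtype.ext e
  conv_lhs => rw [e2]
  rfl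

variable {F V : Type*} [Field F] [AddCommGroup V] [Module F V] {Q : QuadraticForm F V}

section Fin

variable [Finite F] [FiniteDimensional F V]

theorem two_of_frames (hQ : Nondeg Q) {m : ℕ} (hm : 3 ≤ m) (hW : ∀ W, MaxTS Q W → finrank F W = m)
    (H : ∀ e e' : Fin m → V, Frame Q e e' → Two Q) : Two Q := by
  by_cases h : ∃ g ∈ Om Q, ∀ c : F, ∃ v, g v ≠ c • v
  · obtain ⟨g, hg, hns⟩ := h
    obtain ⟨w, w', hf, -⟩ := nsCorner hQ hg hns hm hW
    exact H w w' hf
  · exact ⟨1, one_mem _, 1, one_mem _, fun g hg hns => absurd ⟨g, hg, hns⟩ h⟩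

theorem exists_gl {d : ℕ} {M : Matrix (Fin d) (Fin d) F} (hM : M.det ≠ 0) :
    ∃ X : GL (Fin d) F, (X : Matrix (Fin d) (Fin d) F) = M :=
  ⟨Matrix.GeneralLinearGroup.mkOfDetNeZero M hM, rfl⟩

/-- a matrix with given characteristic polynomial -/
theorem exists_mat {d : ℕ} (hd : 2 ≤ d) {f : F[X]} (hf : RP d f) :
    ∃ B : Matrix (Fin d) (Fin d) F, B.charpoly = f ∧ Cyc B ∧ B.det = (-1) ^ d * f.coeff 0 := by
  obtain ⟨B, hB⟩ := exists_matrix f hf.monic (hf.coeff_ne hd) hf.deg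
  refine ⟨B, hB, cyc_of_irr (by omega) (by rw [hB]; exact hf.irr), ?_⟩
  rw [det_eq_sign_charpoly_coeff, hB, Fintype.card_fin]

theorem good_model (hQ : Nondeg Q) {m : ℕ} (hm : 3 ≤ m) {e e' : Fin m → V} (hf : Frame Q e e') :
    Good (MQ m (res Q e e')) := by
  apply good_of_finite (nondeg_MQ (hf.nondeg_res hQ))
  have := hf.finrank_perp
  rw [← hf.toModel.finrank_eq]
  omega

theorem two_of_twoOf {k : ℕ} {e e' : Fin (k + 2) → V} (hf : Frame Q e e') {X₀ Y₀ : GL (Fin (k + 2)) F}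
    {x y : perp Q e e' ≃ₗ[F] perp Q e e'} (hX : lev X₀ x ∈ Om (MQ (k + 2) (res Q e e')))
    (hY : lev Y₀ y ∈ Om (MQ (k + 2) (res Q e e')))
    (h : TwoOf Q ((autE hf.toModel).symm (lev X₀ x)) ((autE hf.toModel).symm (lev Y₀ y))) : Two Q := by
  have he : ∀ v, MQ (k + 2) (res Q e e') (hf.toModel v) = Q v := hf.MQ_toModel
  refine ⟨_, ?_, _, ?_, h⟩
  · rw [← autE_mem_Om he, MulEquiv.apply_symm_apply]; exact hX
  · rw [← autE_mem_Om he, MulEquiv.apply_symm_apply]; exact hY

/-- **`Ω⁺`** -/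
theorem two_plus (hQ : Nondeg Q) {m : ℕ} (hm : 4 ≤ m) (hd : finrank F V = 2 * m)
    (hW : ∀ W, MaxTS Q W → finrank F W = m) : Two Q := by
  obtain ⟨k, rfl⟩ : ∃ k, m = k + 2 := ⟨m - 2, by omega⟩
  refine two_of_frames hQ (by omega) hW fun e e' hf => ?_
  obtain ⟨f, hfr, hN⟩ := exists_rp_one F (show 3 ≤ k + 1 by omega)
  obtain ⟨B, hBf, hB, hBdet⟩ := exists_mat (by omega) hfr
  rw [hN] at hBdet
  have hfin := hf.finrank_perp
  have hfin0 : finrank F (perp Q e e') = 0 := by omega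
  have : Subsingleton (perp Q e e') := Module.finrank_zero_iff.1 hfin0
  have hu : ∀ (x : perp Q e e' ≃ₗ[F] perp Q e e') (p : F[X]), Un (x : Module.End F (perp Q e e')) p := fun x p =>
    isUnit_of_subsingleton _
  have hdb : (blk (1 : F) B).det = 1 := by rw [blk_det, hBdet, one_mul]
  obtain ⟨X₀, hX₀⟩ : ∃ X₀ : GL (Fin (k + 2)) F, (X₀ : Matrix (Fin (k + 2)) (Fin (k + 2)) F) = blk 1 B :=
    exists_gl (by rw [hdb]; exact one_ne_zero)
  have hc : ∀ x : perp Q e e' ≃ₗ[F] perp Q e e', CopP (k + 2) ((X - C 1) * B.charpoly) x := by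
    intro x X hX
    rw [hBf] at hX
    exact cop_of_eps (one_mul 1) hX (hfr.eval_ne (by omega) 1) hfr.cop (hu _ _) (hu _ _) (hu _ _)
  have hOm : lev X₀ (1 : perp Q e e' ≃ₗ[F] perp Q e e') ∈ Om (MQ (k + 2) (res Q e e')) :=
    lev_det_one_mem (good_model hQ (by omega) hf) (by rw [hX₀, hdb])
  refine two_of_twoOf hf (x := 1) (y := 1⁻¹) hOm (by rw [inv_one]; exact hOm)
    (twoOf hQ (by omega) hW hf (one_mul 1) (one_mul 1) hB hB ?_ ?_ ?_ (O _).one_mem (hc _) (hc _) hX₀ hX₀)
  · rw [hBf]; exact hfr.eval_ne (by omega) 1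
  · rw [hBf]; exact hfr.eval_ne (by omega) 1
  · rw [hBdet]; ring

/-- **`Ω`, odd dimension** -/
theorem two_odd (hQ : Nondeg Q) (h2 : (2 : F) ≠ 0) (hodd : Odd (Nat.card F)) {m : ℕ} (hm : 3 ≤ m)
    (hW : ∀ W, MaxTS Q W → finrank F W = m) : Two Q := by
  obtain ⟨k, rfl⟩ : ∃ k, m = k + 2 := ⟨m - 2, by omega⟩
  refine two_of_frames hQ (by omega) hW fun e e' hf => ?_
  obtain ⟨f, hfr, hN⟩ := exists_rp_neg F hodd (show 2 ≤ k + 1 by omega)
  obtain ⟨B, hBf, hB, hBdet⟩ := exists_mat (by omega) hfr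
  rw [hN] at hBdet
  have hdb : (blk (-1 : F) B).det = 1 := by rw [blk_det, hBdet]; ring
  obtain ⟨X₀, hX₀⟩ : ∃ X₀ : GL (Fin (k + 2)) F, (X₀ : Matrix (Fin (k + 2)) (Fin (k + 2)) F) = blk (-1) B :=
    exists_gl (by rw [hdb]; exact one_ne_zero)
  have hc : CopP (k + 2) ((X - C (-1)) * B.charpoly) (1 : perp Q e e' ≃ₗ[F] perp Q e e') := by
    intro X hX
    rw [hBf] at hX
    refine cop_of_eps (by ring) hX (hfr.eval_ne (by omega) _) hfr.cop (un_one ?_)
      (un_one (hfr.eval_ne (by omega) 1)) (un_one ?_)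
    · rw [eval_sub, eval_X, eval_C]
      intro h
      apply h2
      linear_combination h
    · have h0 := hfr.coeff_ne (by omega)
      exact eval_ne_zero (irreducible_rev hfr.irr h0) (by rw [natDegree_rev h0, hfr.deg]; omega) 1
  have hOm : lev X₀ (1 : perp Q e e' ≃ₗ[F] perp Q e e') ∈ Om (MQ (k + 2) (res Q e e')) :=
    lev_det_one_mem (good_model hQ (by omega) hf) (by rw [hX₀, hdb])
  refine two_of_twoOf hf (x := 1) (y := 1⁻¹) hOm (by rw [inv_one]; exact hOm)
    (twoOf hQ (by omega) hW hf (ε := -1) (δ := -1) (by ring) (by ring) hB hB ?_ ?_ ?_ (O _).one_mem hc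
      (by rw [inv_one]; exact hc) hX₀ hX₀)
  · rw [hBf]; exact hfr.eval_ne (by omega) _
  · rw [hBf]; exact hfr.eval_ne (by omega) _
  · rw [hBdet]; ring

end Fin

/-! ### the anisotropic plane -/

section Plane

theorem cop_chi {P χ : F[X]} (hP : Irreducible P) (hχ : χ.Monic) (hχd : χ.natDegree = 2) (hχ0 : χ.coeff 0 = 1)
    (h : 3 ≤ P.natDegree ∨ (P.natDegree = 2 ∧ P.coeff 0 ≠ P.leadingCoeff)) : IsCoprime P χ := by
  rw [hP.coprime_iff_not_dvd]
  intro hd
  have h1 := natDegree_le_of_dvd hd hχ.ne_zero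
  rcases h with h | ⟨h, h'⟩
  · omega
  · obtain ⟨c, hc⟩ := hd
    have hc0 : c ≠ 0 := by rintro rfl; rw [mul_zero] at hc; exact hχ.ne_zero hc
    have h2 : c.natDegree = 0 := by
      have := congrArg natDegree hc
      rw [natDegree_mul hP.ne_zero hc0] at this
      omega
    rw [natDegree_eq_zero] at h2
    obtain ⟨a, rfl⟩ := h2
    apply h'
    have e1 : P.coeff 0 * a = 1 := by rw [← hχ0, hc, mul_coeff_zero, coeff_C_zero]
    have e2 : P.leadingCoeff * a = 1 := by
      rw [← leadingCoeff_C a, ← leadingCoeff_mul, ← hc, hχ.leadingCoeff]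
    have ha : a ≠ 0 := by rintro rfl; rw [mul_zero] at e1; exact zero_ne_one e1
    exact mul_right_cancel₀ ha (e1.trans e2.symm)

variable {U : Type*} [AddCommGroup U] [Module F U] [FiniteDimensional F U]

theorem un_plane (hU : finrank F U = 2) {x : U ≃ₗ[F] U} (hx : LinearEquiv.det x = 1) {P : F[X]} (hP : Irreducible P)
    (h : 3 ≤ P.natDegree ∨ (P.natDegree = 2 ∧ P.coeff 0 ≠ P.leadingCoeff)) : Un (x : Module.End F U) P := by
  have h1 : LinearMap.det (x : U →ₗ[F] U) = 1 := by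
    have := congrArg Units.val hx
    rwa [LinearEquiv.coe_det, Units.val_one] at this
  refine un_of_coprime (P := (x : Module.End F U).charpoly) (LinearMap.aeval_self_charpoly _)
    (cop_chi hP (LinearMap.charpoly_monic _) ?_ ?_ h)
  · rw [LinearMap.charpoly_natDegree, hU]
  · rw [LinearMap.det_eq_sign_charpoly_coeff, hU] at h1
    simpa using h1

theorem un_fix {x : U ≃ₗ[F] U} (hx : ∀ v, x v = v → v = 0) : Un (x : Module.End F U) (X - C 1) := by
  apply un_of_injective
  intro v hv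
  apply hx
  rw [map_sub, aeval_X, aeval_C, LinearMap.sub_apply, Module.algebraMap_end_apply, one_smul, sub_eq_zero] at hv
  exact hv

theorem copP_plane (hU : finrank F U = 2) {x : U ≃ₗ[F] U} (hx : LinearEquiv.det x = 1) (hx1 : ∀ v, x v = v → v = 0)
    {m d : ℕ} (hd : 2 ≤ d) {f : F[X]} (hf : RP d f) (h : 3 ≤ d ∨ f.coeff 0 ≠ 1) :
    CopP m ((X - C 1) * f) x := by
  have h0 := hf.coeff_ne hd
  intro X hX
  refine cop_of_eps (one_mul 1) hX (hf.eval_ne hd 1) hf.cop (un_fix hx1) (un_plane hU hx hf.irr ?_)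
    (un_plane hU hx (irreducible_rev hf.irr h0) ?_)
  · rw [hf.deg, hf.monic.leadingCoeff]
    rcases h with h | h
    · exact Or.inl h
    · rcases Nat.lt_or_ge 2 d with h' | h'
      · exact Or.inl h'
      · exact Or.inr ⟨by omega, h⟩
  · have hlc : f.reverse.leadingCoeff = f.coeff 0 := by
      rw [reverse_leadingCoeff, trailingCoeff, natTrailingDegree_eq_zero_of_constantCoeff_ne_zero h0]
    rw [natDegree_rev h0, hf.deg, hlc, coeff_zero_reverse, hf.monic.leadingCoeff]
    rcases h with h | h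
    · exact Or.inl h
    · rcases Nat.lt_or_ge 2 d with h' | h'
      · exact Or.inl h'
      · exact Or.inr ⟨by omega, fun h1 => h h1.symm⟩

variable {q : QuadraticForm F U}

/-- a product of two reflections in independent vectors of a plane has no fixed vector -/
theorem refl_fix (hq : Nondeg q) (hU : finrank F U = 2) {a b : U} (ha : q a ≠ 0) (hb : q b ≠ 0)
    (hli : LinearIndependent F ![a, b]) {v : U} (hv : (refl q a ha * refl q b hb) v = v) : v = 0 := by
  have h1 : refl q b hb v = refl q a ha v := by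
    have h2 := congrArg (refl q a ha) hv
    rw [LinearEquiv.mul_apply] at h2
    have h3 : ∀ w, refl q a ha (refl q a ha w) = w := fun w => reflLin_reflLin ha w
    rwa [h3] at h2
  rw [refl_apply, refl_apply, sub_right_inj] at h1
  have h2 := LinearIndependent.pair_iff.1 hli ((q a)⁻¹ * polar q a v) (-((q b)⁻¹ * polar q b v)) (by
    rw [neg_smul, h1, add_neg_cancel])
  have h3 : polar q a v = 0 := (mul_eq_zero.1 h2.1).resolve_left (inv_ne_zero ha)
  have h4 : polar q b v = 0 := (mul_eq_zero.1 (neg_eq_zero.1 h2.2)).resolve_left (inv_ne_zero hb)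
  apply hq
  intro w
  have hsp : Submodule.span F (Set.range ![a, b]) = ⊤ :=
    hli.span_eq_top_of_card_eq_finrank' (by simp [hU])
  have hw : w ∈ Submodule.span F (Set.range ![a, b]) := by rw [hsp]; trivial
  have hr : Set.range ![a, b] = {a, b} := by
    ext z
    simp only [Set.mem_range, Fin.exists_fin_two, Matrix.cons_val_zero, Matrix.cons_val_one, Set.mem_insert_iff,
      Set.mem_singleton_iff]
    constructor
    · rintro (h | h)
      · exact Or.inl h.symm
      · exact Or.inr h.symm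
    · rintro (h | h)
      · exact Or.inl h.symm
      · exact Or.inr h.symm
  rw [hr, Submodule.mem_span_pair] at hw
  obtain ⟨s, t, rfl⟩ := hw
  rw [polar_add_right, polar_smul_right, polar_smul_right, polar_comm q v a, polar_comm q v b, h3, h4]
  simp

/-- the vectors -/
theorem exists_pair_plane [Finite F] (hU : finrank F U = 2) (hani : ∀ v, q v = 0 → v = 0) {N : F}
    (hN : (2 : F) ≠ 0 → ¬ IsSquare N) :
    ∃ (a b : U), q a ≠ 0 ∧ q b ≠ 0 ∧ LinearIndependent F ![a, b] ∧ ((2 : F) ≠ 0 → q b = N * q a) := by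
  have hpos : 0 < finrank F U := by omega
  have : Nontrivial U := Module.nontrivial_of_finrank_pos hpos
  obtain ⟨a, ha⟩ := exists_ne (0 : U)
  have hqa : q a ≠ 0 := fun h => ha (hani a h)
  by_cases h2 : (2 : F) = 0
  · -- any second vector
    obtain ⟨b, hb⟩ : ∃ b, b ∉ Submodule.span F {a} := by
      by_contra hcon
      push Not at hcon
      have h3 : Submodule.span F {a} = ⊤ := Submodule.eq_top_iff'.2 hcon
      have h4 := finrank_span_singleton (K := F) ha
      rw [h3, finrank_top] at h4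
      omega
    have hb0 : b ≠ 0 := by rintro rfl; exact hb (Submodule.zero_mem _)
    refine ⟨a, b, hqa, fun h => hb0 (hani b h), ?_, fun h => absurd h2 h⟩
    rw [LinearIndependent.pair_iff' ha]
    intro c hc
    exact hb (Submodule.mem_span_singleton.2 ⟨c, hc⟩)
  · -- an orthogonal vector
    have h3 : 0 < finrank F (LinearMap.ker (polarBilin q a)) := by
      have h4 := LinearMap.finrank_range_add_finrank_ker (polarBilin q a)
      have h5 : finrank F (LinearMap.range (polarBilin q a)) ≤ 1 := by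
        have := Submodule.finrank_le (LinearMap.range (polarBilin q a))
        rwa [Module.finrank_self] at this
      omega
    have : Nontrivial (LinearMap.ker (polarBilin q a)) := Module.nontrivial_of_finrank_pos h3
    obtain ⟨⟨c, hc⟩, hc0⟩ := exists_ne (0 : LinearMap.ker (polarBilin q a))
    have hc0' : c ≠ 0 := fun h => hc0 (Subtype.ext h)
    have hac : polar q a c = 0 := hc
    have hqc : q c ≠ 0 := fun h => hc0' (hani c h)
    have := Fintype.ofFinite F
    have hcard : Fintype.card F % 2 = 1 := by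
      rw [← Nat.odd_iff]
      by_contra hev
      rw [Nat.not_odd_iff_even] at hev
      have h5 := (FiniteField.even_card_iff_char_two (F := F)).2 (Nat.even_iff.1 hev)
      apply h2
      have h6 := ringChar.Nat.cast_ringChar (R := F)
      rw [h5] at h6
      exact_mod_cast h6
    have hN' := hN h2
    obtain ⟨s, t, hst⟩ := FiniteField.exists_root_sum_quadratic (R := F)
      (f := C (q a) * X ^ 2 + C 0 * X + C (-(N * q a))) (g := C (q c) * X ^ 2 + C 0 * X + C 0)
      (degree_quadratic hqa) (degree_quadratic hqc) hcard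
    simp only [eval_add, eval_mul, eval_C, eval_pow, eval_X, zero_mul, add_zero] at hst
    have hq' : q (s • a + t • c) = N * q a := by
      rw [Q_add, QuadraticMap.map_smul, QuadraticMap.map_smul, polar_smul_left, polar_smul_right, hac]
      simp only [smul_eq_mul]
      linear_combination hst
    have hN0 : N ≠ 0 := by
      rintro rfl
      exact hN' IsSquare.zero
    refine ⟨a, s • a + t • c, hqa, by rw [hq']; exact mul_ne_zero hN0 hqa, ?_, fun _ => hq'⟩
    rw [LinearIndependent.pair_iff' ha]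
    intro r hr
    apply hN'
    rw [← hr, QuadraticMap.map_smul, smul_eq_mul] at hq'
    exact ⟨r, (mul_right_cancel₀ hqa hq').symm⟩

end Plane

section Minus

variable [Finite F] [FiniteDimensional F V]

/-- the complement of a maximal frame is anisotropic -/
theorem anis_perp {m : ℕ} (hW : ∀ W, MaxTS Q W → finrank F W = m) {e e' : Fin m → V} (hf : Frame Q e e')
    (v : perp Q e e') (hv : res Q e e' v = 0) : v = 0 := by
  have hts : Cfsg.Agent.H434.Corn.TS Q (Submodule.span F (Set.range e)) := by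
    intro x hx
    obtain ⟨c, rfl⟩ := (Submodule.mem_span_range_iff_exists_fun F).1 hx
    exact hf.Q_sum_l c _
  obtain ⟨W, hle, hWm⟩ := Cfsg.Agent.H434.Corn.exists_maxTS hts
  have hli : LinearIndependent F e := by
    have h1 := (li_frame hf).comp (Fin.castAdd m) (Fin.castAdd_injective m m)
    have h2 : Fin.append e e' ∘ Fin.castAdd m = e := by
      funext i
      simp
    rwa [h2] at h1
  have hfr : finrank F (Submodule.span F (Set.range e)) = m := by
    rw [finrank_span_eq_card hli, Fintype.card_fin]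
  have heq : Submodule.span F (Set.range e) = W :=
    Submodule.eq_of_le_of_finrank_eq hle (by rw [hfr, hW W hWm])
  have hvW : (v : V) ∈ W := hWm.max _ hv (by
    rw [← heq]
    intro w hw
    obtain ⟨c, rfl⟩ := (Submodule.mem_span_range_iff_exists_fun F).1 hw
    exact Frame.polar_perp_l c v.2)
  rw [← heq] at hvW
  obtain ⟨c, hc⟩ := (Submodule.mem_span_range_iff_exists_fun F).1 hvW
  have hc0 : c = 0 := by
    funext j
    have h1 := hf.polar_sum_l c j
    rw [hc, polar_comm, (v.2 j).2] at h1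
    exact h1.symm
  apply Subtype.ext
  rw [← hc, hc0]
  simp

/-- **`Ω⁻`** -/
theorem two_minus (hQ : Nondeg Q) {m : ℕ} (hm : 3 ≤ m) (hd : finrank F V = 2 * m + 2)
    (hW : ∀ W, MaxTS Q W → finrank F W = m) (hex : 4 ≤ m ∨ 3 ≤ Nat.card F) : Two Q := by
  obtain ⟨k, rfl⟩ : ∃ k, m = k + 2 := ⟨m - 2, by omega⟩
  refine two_of_frames hQ (by omega) hW fun e e' hf => ?_
  have hG := good_model hQ (by omega) hf
  have hQ1 := hf.nondeg_res hQ
  have hfin := hf.finrank_perp
  have hU : finrank F (perp Q e e') = 2 := by omega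
  obtain ⟨f, hfr, hN⟩ := exists_rp_gen F (show 2 ≤ k + 1 by omega) (by
    rcases hex with h | h
    · left; omega
    · right; exact h)
  obtain ⟨g, hgr, hgf, -, -⟩ := hfr.dual (by omega)
  obtain ⟨N, hNe⟩ : ∃ N, N = (-1) ^ (k + 1) * f.coeff 0 := ⟨_, rfl⟩
  have hf0 := hfr.coeff_ne (by omega)
  have hN0 : N ≠ 0 := by rw [hNe]; exact mul_ne_zero (pow_ne_zero _ (neg_ne_zero.2 one_ne_zero)) hf0
  have hs1 : ((-1 : F) ^ (k + 1)) * (-1) ^ (k + 1) = 1 := by
    rw [← mul_pow]; simp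
  have hgN : (-1) ^ (k + 1) * g.coeff 0 = N⁻¹ := by
    apply eq_inv_of_mul_eq_one_left
    rw [hNe]
    linear_combination hgf + (g.coeff 0 * f.coeff 0) * hs1
  rw [← hNe] at hN
  -- `f(0) ≠ 1` if `q ≥ 3`
  have hNone : 3 ≤ Nat.card F → N ≠ 1 := by
    intro h3 h1
    have := (hN 1).1 (by rw [pow_one, h1])
    have := Nat.le_of_dvd Nat.one_pos this
    omega
  have hfc : 3 ≤ k + 1 ∨ (f.coeff 0 ≠ 1 ∧ g.coeff 0 ≠ 1) := by
    rcases Nat.lt_or_ge (k + 1) 3 with h | h
    · right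
      have hk : k = 1 := by omega
      subst hk
      have h3 : N ≠ 1 := hNone (by omega)
      have h4 : N = f.coeff 0 := by rw [hNe]; ring
      rw [h4] at h3
      refine ⟨h3, fun h5 => h3 ?_⟩
      rw [h5, one_mul] at hgf
      exact hgf
    · exact Or.inl h
  have hNsq : (2 : F) ≠ 0 → ¬ IsSquare N := by
    rintro h2 ⟨t, ht⟩
    have hodd : Odd (Nat.card F) := by
      have := Fintype.ofFinite F
      rw [Nat.card_eq_fintype_card]
      by_contra hev
      rw [Nat.not_odd_iff_even] at hev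
      have h5 := (FiniteField.even_card_iff_char_two (F := F)).2 (Nat.even_iff.1 hev)
      apply h2
      have h6 := ringChar.Nat.cast_ringChar (R := F)
      rw [h5] at h6
      exact_mod_cast h6
    obtain ⟨r, hr⟩ := hodd
    have hr0 : 0 < r := by
      have : 2 ≤ Nat.card F := Finite.one_lt_card
      omega
    have ht0 : t ≠ 0 := by rintro rfl; rw [mul_zero] at ht; exact hN0 ht
    have h3 : N ^ r = 1 := by
      have := Fintype.ofFinite F
      rw [ht, ← pow_two, ← pow_mul]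
      have h7 := FiniteField.pow_card_sub_one_eq_one t ht0
      rw [← Nat.card_eq_fintype_card, hr, Nat.add_sub_cancel] at h7
      exact h7
    have h4 := (hN r).1 h3
    have := Nat.le_of_dvd hr0 h4
    omega
  obtain ⟨a, b, ha, hb, hli, hab⟩ := exists_pair_plane hU (anis_perp hW hf) hNsq
  obtain ⟨x, hxe⟩ : ∃ x, x = refl (res Q e e') a ha * refl (res Q e e') b hb := ⟨_, rfl⟩
  have hx : x ∈ O (res Q e e') := by rw [hxe]; exact (O _).mul_mem (refl_mem_O ha) (refl_mem_O hb)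
  have hxdet : LinearEquiv.det x = 1 := by rw [hxe, map_mul, det_refl, det_refl]; simp
  have hxidet : LinearEquiv.det x⁻¹ = 1 := by rw [map_inv, hxdet, inv_one]
  have hxfix : ∀ v, x v = v → v = 0 := by
    intro v hv
    rw [hxe] at hv
    exact refl_fix hQ1 hU ha hb hli hv
  have hxifix : ∀ v, x⁻¹ v = v → v = 0 := by
    intro v hv
    apply hxfix
    conv_lhs => rw [← hv]
    exact x.apply_symm_apply v
  obtain ⟨B, hBf, hB, hBdet⟩ := exists_mat (by omega) hfr
  obtain ⟨D, hDf, hD, hDdet⟩ := exists_mat (by omega) hgr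
  rw [← hNe] at hBdet
  rw [hgN] at hDdet
  have hdb : (blk (1 : F) B).det = N := by rw [blk_det, hBdet, one_mul]
  have hdd : (blk (1 : F) D).det = N⁻¹ := by rw [blk_det, hDdet, one_mul]
  obtain ⟨X₀, hX₀⟩ : ∃ X₀ : GL (Fin (k + 2)) F, (X₀ : Matrix (Fin (k + 2)) (Fin (k + 2)) F) = blk 1 B :=
    exists_gl (by rw [hdb]; exact hN0)
  obtain ⟨Y₀, hY₀⟩ : ∃ Y₀ : GL (Fin (k + 2)) F, (Y₀ : Matrix (Fin (k + 2)) (Fin (k + 2)) F) = blk 1 D :=
    exists_gl (by rw [hdd]; exact inv_ne_zero hN0)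
  -- membership in `Ω`
  have hmem : ∀ (Z : GL (Fin (k + 2)) F) (z : perp Q e e' ≃ₗ[F] perp Q e e') (hz : z ∈ O (res Q e e')),
      LinearEquiv.det z = 1 → (∀ h2 : (2 : F) = 0, dick h2 hQ1 ⟨z, hz⟩ = 1) →
      (∀ [Finite (perp Q e e')], (2 : F) ≠ 0 → chi (Z : Matrix (Fin (k + 2)) (Fin (k + 2)) F).det * spin (res Q e e') ⟨z, hz⟩ = 1) →
      lev Z z ∈ Om (MQ (k + 2) (res Q e e')) := by
    intro Z z hz hdz h3 h4
    by_cases h2 : (2 : F) = 0
    · apply mem_Om_of_two h2 hG (lev_mem hz)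
      rw [← dick_eq_one_iff h2 hG.nondeg ⟨lev Z z, lev_mem hz⟩, lev_eq Z hz, map_mul, dick_levGL h2 hG.nondeg, one_mul]
      rw [dick_eq_one_iff]
      show Even (rk (lev (1 : GL (Fin (k + 2)) F) z))
      rw [rk_levO]
      exact (dick_eq_one_iff h2 hQ1 ⟨z, hz⟩).1 (h3 h2)
    · have : Finite V := Module.finite_of_finite F
      have : Finite (perp Q e e') := inferInstance
      have : Finite (M F (perp Q e e') (k + 2)) := inferInstance
      apply mem_Om_of_odd h2 hG (lev_mem hz)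
      · rw [det_lev, hdz]
      · rw [spin_lev h2 hQ1]
        exact h4 h2
  have hdk : ∀ h2 : (2 : F) = 0, dick h2 hQ1 ⟨x, hx⟩ = 1 := by
    intro h2
    have h3 : (⟨x, hx⟩ : O (res Q e e')) = ⟨_, refl_mem_O ha⟩ * ⟨_, refl_mem_O hb⟩ := Subtype.ext hxe
    rw [h3, map_mul, dick_refl h2 hQ1 ha, dick_refl h2 hQ1 hb]
    rfl
  have hsp : ∀ [Finite (perp Q e e')], (2 : F) ≠ 0 → chi N * spin (res Q e e') ⟨x, hx⟩ = 1 := by
    intro _ h2
    have h3 : (⟨x, hx⟩ : O (res Q e e')) = ⟨_, refl_mem_O ha⟩ * ⟨_, refl_mem_O hb⟩ := Subtype.ext hxe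
    rw [h3, map_mul, spin_refl' h2 ha, spin_refl' h2 hb, hab h2, chi_mul hN0 ha, neg_mul_neg]
    have h4 : chi N * chi N = 1 := Int.units_mul_self _
    have h5 : chi (res Q e e' a) * chi (res Q e e' a) = 1 := Int.units_mul_self _
    calc chi N * (chi (res Q e e' a) * (chi N * chi (res Q e e' a)))
        = (chi N * chi N) * (chi (res Q e e' a) * chi (res Q e e' a)) := by
          simp only [mul_assoc, mul_left_comm]
      _ = 1 := by rw [h4, h5, one_mul]
  have hxi : x⁻¹ ∈ O (res Q e e') := (O _).inv_mem hx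
  have hinv : (⟨x⁻¹, hxi⟩ : O (res Q e e')) = ⟨x, hx⟩⁻¹ := rfl
  refine two_of_twoOf hf (X₀ := X₀) (Y₀ := Y₀) (x := x) (y := x⁻¹) ?_ ?_
    (twoOf hQ (by omega) hW hf (one_mul 1) (one_mul 1) hB hD ?_ ?_ ?_ hx ?_ ?_ hX₀ hY₀)
  · refine hmem X₀ x hx hxdet hdk ?_
    intro _ h2
    rw [hX₀, hdb]
    exact hsp h2
  · refine hmem Y₀ x⁻¹ hxi hxidet ?_ ?_
    · intro h2
      rw [hinv, map_inv, hdk h2, inv_one]
    · intro _ h2
      rw [hY₀, hdd, hinv, map_inv]
      have h4 := hsp h2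
      have h5 : chi N⁻¹ * chi N = 1 := by
        rw [← chi_mul (inv_ne_zero hN0) hN0, inv_mul_cancel₀ hN0, chi_eq_one_iff]
        exact IsSquare.one
      have h6 : spin (res Q e e') ⟨x, hx⟩ = (chi N)⁻¹ := eq_inv_of_mul_eq_one_right h4
      rw [h6, inv_inv]
      exact h5
  · rw [hBf]; exact hfr.eval_ne (by omega) 1
  · rw [hDf]; exact hgr.eval_ne (by omega) 1
  · rw [hBdet, hDdet, one_mul, one_mul, mul_inv_cancel₀ hN0]
  · rw [hBf]
    exact copP_plane hU hxdet hxfix (by omega) hfr (hfc.imp id And.left)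
  · rw [hDf]
    exact copP_plane hU hxidet hxifix (by omega) hgr (hfc.imp id And.right)

end Minus

/-! ### the groups -/

theorem tc_plus {F : Type*} [Field F] [Fintype F] {m : ℕ} (hm : 4 ≤ m) :
    TC (Cfsg.POmega F (Cfsg.quadFormPlus m F)) := by
  have h4 : Two (plusForm m F) := two_plus (nondeg_plusForm m F) hm (by
    rw [Module.finrank_fintype_fun_eq_card]; simp; ring) (H295.War.witt_plus m)
  have h5 := tc_of_two (plusForm m F) h4
  rw [coe_plusForm] at h5
  exact h5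

theorem tc_odd {F : Type*} [Field F] [Fintype F] (hodd : Odd (Fintype.card F)) {m : ℕ} (hm : 3 ≤ m) :
    TC (Cfsg.POmega F (Cfsg.quadFormOdd m F)) := by
  have h2 : (2 : F) ≠ 0 := by
    intro h0
    have : CharP F 2 := CharTwo.of_one_ne_zero_of_two_eq_zero one_ne_zero h0
    have h3 := (FiniteField.even_card_iff_char_two (F := F)).1 (ringChar.eq F 2)
    rw [Nat.odd_iff] at hodd
    omega
  have h4 : Two (oddForm m F) := two_odd (nondeg_oddForm m F h2) h2 (by
    rw [Nat.card_eq_fintype_card]; exact hodd) hm (H295.War.witt_odd m)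
  have h5 := tc_of_two (oddForm m F) h4
  rw [coe_oddForm] at h5
  exact h5

theorem tc_minus {F : Type*} [Field F] [Fintype F] {m : ℕ} (hm : 4 ≤ m) (a b : F)
    (hab : ∀ z₁ z₂ : F, z₁ ^ 2 + a * z₁ * z₂ + b * z₂ ^ 2 = 0 → z₁ = 0 ∧ z₂ = 0)
    (hex : 5 ≤ m ∨ 3 ≤ Fintype.card F) : TC (Cfsg.POmega F (Cfsg.quadFormMinus (m - 1) F a b)) := by
  have h4 : Two (minusForm (m - 1) F a b) := two_minus (nondeg_minusForm (m - 1) F a b hab) (by omega) (by
    rw [Module.finrank_fintype_fun_eq_card]; simp; omega) (H295.War.witt_minus (m - 1) a b hab) (by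
    rcases hex with h | h
    · left; omega
    · right; rw [Nat.card_eq_fintype_card]; exact h)
  have h5 := tc_of_two (minusForm (m - 1) F a b) h4
  rw [coe_minusForm] at h5
  exact h5

end Cfsg.Agent.H140.TC
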