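import Cfsg.Agent.H140.TC.SpRow

/-!
# S4173, the group `PSp_4(3)` (two fixed classes)

Every noncentral element is conjugate to `lo T₁ * lv A * up S` with `A` a companion matrix of determinant one and
`S ≠ 0`; for the 78 pairs `(A, S)` the table gives a factorization.
-/

set_option autoImplicit false
set_option maxRecDepth 20000

namespace Cfsg.Agent.H140.TC.Sp

open Matrix Cfsg.Agent.H649.PwSp Cfsg.Agent.H140.OreO

/-- matrix from a number -/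
def m2 (N : ℕ) : Matrix (Fin 2) (Fin 2) (ZMod 3) :=
  !![((N % 3 : ℕ) : ZMod 3), ((N / 3 % 3 : ℕ) : ZMod 3); ((N / 9 % 3 : ℕ) : ZMod 3), ((N / 27 % 3 : ℕ) : ZMod 3)]

/-- the table: `P, P⁻¹, Z, Z⁻¹, T` and the four blocks of the conjugating matrix -/
def tab : List (List ℕ) := [
  [], [39,14,58,58,28,36,50,37,76], [39,14,58,58,56,52,28,56,40], [12,12,73,73,39,66,28,44,29], 
  [12,12,73,73,66,47,27,21,29], [39,14,58,58,12,59,13,39,46], [12,12,73,73,66,37,27,26,31], 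
  [39,14,58,58,66,64,31,47,27], [12,12,73,73,39,63,31,47,31], [12,12,73,73,66,9,33,12,43], 
  [12,12,73,73,27,66,66,45,31], [12,12,73,73,28,40,12,28,28], [12,12,73,73,27,31,46,70,76], 
  [66,13,43,71,27,46,12,63,49], [12,12,73,73,12,39,69,25,6], [12,12,73,73,28,41,13,30,32], 
  [12,12,73,73,66,76,45,51,46], [12,12,73,73,27,26,13,33,18], [12,12,73,73,51,29,2,29,28], 
  [12,12,73,73,79,56,39,67,67], [12,12,73,73,54,24,40,80,68], [12,12,73,73,79,28,51,29,76], 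
  [12,12,73,73,54,11,73,40,52], [12,12,73,73,51,29,16,16,75], [12,12,73,73,54,31,32,19,27], 
  [12,12,73,73,24,34,0,5,37], [66,13,43,71,54,45,31,2,27], [], [12,12,49,77,55,55,27,42,31], 
  [12,12,49,77,29,50,65,13,62], [12,12,49,77,55,12,21,43,29], [12,12,49,77,56,8,47,58,45], 
  [12,12,49,77,28,44,31,65,70], [12,12,49,77,67,28,24,67,15], [12,12,49,77,1,31,47,54,1], 
  [12,12,49,77,28,35,16,54,38], [12,12,49,77,39,18,57,25,53], [12,12,49,77,66,75,40,13,28], 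
  [12,12,49,77,27,47,58,21,64], [12,12,49,77,27,42,25,3,9], [12,12,49,77,12,4,47,17,58], 
  [12,12,49,77,29,28,41,24,15], [12,12,49,77,78,28,27,53,61], [12,12,49,77,27,36,25,3,9], 
  [12,12,49,77,12,43,67,12,56], [12,12,49,77,78,29,2,50,46], [12,12,49,77,54,39,35,36,41], 
  [12,12,49,77,39,32,52,65,58], [12,12,49,77,39,45,49,51,37], [12,12,49,77,24,28,0,53,28], 
  [12,12,49,77,54,39,28,36,41], [12,12,49,77,54,46,35,1,27], [12,12,49,77,55,0,12,24,49], 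
  [12,12,49,77,24,35,15,64,58], [], [12,12,25,78,66,37,54,69,55], [12,12,25,78,51,32,17,13,59], 
  [12,12,25,78,66,28,51,56,13], [12,12,25,78,1,64,69,46,19], [12,12,25,78,27,74,66,48,73], 
  [12,12,25,78,51,40,75,52,16], [12,12,25,78,54,32,21,13,6], [12,12,25,78,28,38,13,73,46], 
  [12,12,25,78,39,9,33,22,37], [12,12,25,78,78,66,42,51,61], [12,12,25,78,2,43,62,12,31], 
  [12,12,25,78,52,32,53,13,10], [12,12,25,78,27,46,12,60,18], [12,12,25,78,67,46,66,0,31], 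
  [12,12,25,78,54,28,24,13,6], [12,12,25,78,1,40,38,52,72], [12,12,25,78,12,74,37,49,37], 
  [12,12,25,78,78,29,2,17,37], [12,12,25,78,1,46,78,46,19], [12,12,25,78,39,73,32,38,32], 
  [12,12,25,78,27,77,12,7,40], [12,12,25,78,66,30,49,76,37], [12,12,25,78,2,52,8,12,31], 
  [12,12,25,78,55,46,27,62,1], [12,12,25,78,14,73,75,31,65], [12,12,25,78,54,42,29,10,27]]

/-- entries of the table -/
def tb (i j : ℕ) : Matrix (Fin 2) (Fin 2) (ZMod 3) := m2 ((tab.getD i []).getD j 0)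

/-- companion matrix -/
def cA (t : ZMod 3) : Matrix (Fin 2) (Fin 2) (ZMod 3) := !![0, -1; 1, t]

/-- symmetric matrix -/
def cS (a b c : ZMod 3) : Matrix (Fin 2) (Fin 2) (ZMod 3) := !![a, b; b, c]

/-- the fixed matrix of determinant `-1` -/
def cX : Matrix (Fin 2) (Fin 2) (ZMod 3) := !![0, 1; 1, 1]

/-- blocks of the fixed element of order five -/
def y11 : Matrix (Fin 2) (Fin 2) (ZMod 3) := !![2, 0; 0, 2]
/-- blocks of the fixed element of order five -/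
def y12 : Matrix (Fin 2) (Fin 2) (ZMod 3) := !![0, 2; 2, 0]
/-- blocks of the fixed element of order five -/
def y21 : Matrix (Fin 2) (Fin 2) (ZMod 3) := !![1, 0; 0, 2]
/-- blocks of the fixed element of order five -/
def y22 : Matrix (Fin 2) (Fin 2) (ZMod 3) := !![2, 1; 2, 2]

/-- the check -/
def Chk (A S P P' Z Z' T R₁ R₂ R₃ R₄ : Matrix (Fin 2) (Fin 2) (ZMod 3)) : Prop :=
  (P * P' = 1 ∧ P' * P = 1) ∧ (Z * Z' = 1 ∧ Z' * Z = 1) ∧ P * cX * P' * Z = A ∧ Tᵀ = T ∧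
  (R₁ * R₂ᵀ = R₂ * R₁ᵀ ∧ R₃ * R₄ᵀ = R₄ * R₃ᵀ ∧ R₁ * R₄ᵀ - R₂ * R₃ᵀ = 1 ∧ R₄ * R₁ᵀ - R₃ * R₂ᵀ = 1) ∧
  (Z * R₁ + Z * S * R₃ = R₁ * y11 + R₂ * y21 ∧ Z * R₂ + Z * S * R₄ = R₁ * y12 + R₂ * y22 ∧
    T * Z * R₁ + (T * Z * S + Z'ᵀ) * R₃ = R₃ * y11 + R₄ * y21 ∧
    T * Z * R₂ + (T * Z * S + Z'ᵀ) * R₄ = R₃ * y12 + R₄ * y22)

instance (A S P P' Z Z' T R₁ R₂ R₃ R₄ : Matrix (Fin 2) (Fin 2) (ZMod 3)) :
    Decidable (Chk A S P P' Z Z' T R₁ R₂ R₃ R₄) := by unfold Chk; infer_instance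

/-- check at index `i` -/
def ChkI (A S : Matrix (Fin 2) (Fin 2) (ZMod 3)) (i : ℕ) : Prop :=
  Chk A S (tb i 0) (tb i 1) (tb i 2) (tb i 3) (tb i 4) (tb i 5) (tb i 6) (tb i 7) (tb i 8)

instance (A S : Matrix (Fin 2) (Fin 2) (ZMod 3)) (i : ℕ) : Decidable (ChkI A S i) := by unfold ChkI; infer_instance

theorem chk_all : ∀ t a b c : ZMod 3, ¬ (a = 0 ∧ b = 0 ∧ c = 0) →
    ChkI (cA t) (cS a b c) (t.val * 27 + a.val * 9 + b.val * 3 + c.val) := by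
  decide +kernel

/-- basis of a companion matrix -/
def cW (a b c d : ZMod 3) : Matrix (Fin 2) (Fin 2) (ZMod 3) :=
  if c ≠ 0 then !![1, a; 0, c] else if b ≠ 0 then !![0, b; 1, d] else !![1, a; 1, d]

theorem comp_all : ∀ a b c d : ZMod 3, a * d - b * c = 1 → ¬ (b = 0 ∧ c = 0 ∧ a = d) →
    (cW a b c d 0 0 * cW a b c d 1 1 - cW a b c d 0 1 * cW a b c d 1 0 ≠ 0) ∧
      !![a, b; c, d] * cW a b c d = cW a b c d * cA (a + d) := by
  decide +kernel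

theorem fix_all : ∀ a b c : ZMod 3, cXᵀ * cS a b c * cX = cS a b c → a = 0 ∧ b = 0 ∧ c = 0 := by
  decide +kernel

theorem exists_cS {T : Matrix (Fin 2) (Fin 2) (ZMod 3)} (hT : Tᵀ = T) : ∃ a b c, T = cS a b c := by
  refine ⟨T 0 0, T 0 1, T 1 1, ?_⟩
  have h := congrFun (congrFun hT 0) 1
  rw [transpose_apply] at h
  ext i j
  fin_cases i <;> fin_cases j <;> simp [cS, h]

/-- invertible matrix from two-sided inverse -/
def mkGL (P P' : Matrix (Fin 2) (Fin 2) (ZMod 3)) (h : P * P' = 1) (h' : P' * P = 1) : GL (Fin 2) (ZMod 3) :=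
  ⟨P, P', h, h'⟩

/-- the fixed element of determinant `-1` -/
def gX : GL (Fin 2) (ZMod 3) := mkGL cX !![-1, 1; 1, 0] (by decide +kernel) (by decide +kernel)

theorem conj_gX {l₁ l₂ : G 2 (ZMod 3)} (h₁ : l₁ ∈ Lo 2 (ZMod 3)) (h₂ : l₂ ∈ Lo 2 (ZMod 3)) :
    ∃ r : G 2 (ZMod 3), l₁ * lv gX * l₂ = r * lv gX * r⁻¹ := by
  have : Finite (G 2 (ZMod 3)) := inferInstance
  obtain ⟨r, -, e⟩ := conj_of_fpf (Lo 2 (ZMod 3)) (lv gX) (fun r hr => Lo_conj gX hr) (fun r hr hc => by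
    obtain ⟨T, hT, rfl⟩ := hr
    have h1 := lv_lo gX hT
    have h2 : (lv gX)⁻¹ * lo T hT * lv gX = lo T hT := by
      rw [mul_assoc, ← hc]; group
    rw [h2] at h1
    have h3 := lo_inj h1
    obtain ⟨a, b, c, rfl⟩ := exists_cS hT
    obtain ⟨ha, hb, hc'⟩ := fix_all a b c h3.symm
    subst ha hb hc'
    have h4 : cS 0 0 0 = (0 : Matrix (Fin 2) (Fin 2) (ZMod 3)) := by
      ext i j
      fin_cases i <;> fin_cases j <;> rfl
    rw [lo_congr hT h4]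
    exact lo_zero) (l₁ * (lv gX * l₂ * (lv gX)⁻¹)) (mul_mem h₁ (Lo_conj gX h₂))
  refine ⟨r, ?_⟩
  rw [← e]
  group

/-- the fixed element of order five -/
def gY : G 2 (ZMod 3) := ⟨fromBlocks y11 y12 y21 y22, by rw [mem_iff]; decide +kernel⟩

/-- the normal forms -/
theorem fac_normal (t : ZMod 3) {A : GL (Fin 2) (ZMod 3)} (hA : (A : Matrix (Fin 2) (Fin 2) (ZMod 3)) = cA t)
    {S : Matrix (Fin 2) (Fin 2) (ZMod 3)} (hS : Sᵀ = S) (hS0 : S ≠ 0) {l : G 2 (ZMod 3)} (hl : l ∈ Lo 2 (ZMod 3)) :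
    ∃ u v : G 2 (ZMod 3), l * lv A * up S hS = (u * lv gX * u⁻¹) * (v * gY * v⁻¹) := by
  obtain ⟨a, b, c, rfl⟩ := exists_cS hS
  have hne : ¬ (a = 0 ∧ b = 0 ∧ c = 0) := by
    rintro ⟨rfl, rfl, rfl⟩
    apply hS0
    ext i j
    fin_cases i <;> fin_cases j <;> rfl
  have hchk := chk_all t a b c hne
  rw [ChkI] at hchk
  generalize t.val * 27 + a.val * 9 + b.val * 3 + c.val = i at hchk
  generalize tb i 0 = P at hchk
  generalize tb i 1 = P' at hchk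
  generalize tb i 2 = Z at hchk
  generalize tb i 3 = Z' at hchk
  generalize tb i 4 = T at hchk
  generalize tb i 5 = R₁ at hchk
  generalize tb i 6 = R₂ at hchk
  generalize tb i 7 = R₃ at hchk
  generalize tb i 8 = R₄ at hchk
  obtain ⟨⟨p1, p2⟩, ⟨z1, z2⟩, hPA, hT, hR, e1, e2, e3, e4⟩ := hchk
  obtain ⟨gP, hgP⟩ : ∃ gP, gP = mkGL P P' p1 p2 := ⟨_, rfl⟩
  obtain ⟨gZ, hgZ⟩ : ∃ gZ, gZ = mkGL Z Z' z1 z2 := ⟨_, rfl⟩
  obtain ⟨r, hr⟩ : ∃ r : G 2 (ZMod 3), r.1 = fromBlocks R₁ R₂ R₃ R₄ := ⟨⟨_, mem_iff.2 hR⟩, rfl⟩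
  have hZ : (gZ : Matrix (Fin 2) (Fin 2) (ZMod 3)) = Z := by rw [hgZ]; rfl
  have hZi : ((gZ⁻¹ : GL (Fin 2) (ZMod 3)) : Matrix (Fin 2) (Fin 2) (ZMod 3)) = Z' := by rw [hgZ]; rfl
  have hAe : A = gP * gX * gP⁻¹ * gZ := by
    apply Units.ext
    rw [hA, ← hPA, hgP, hgZ]
    rfl
  have key : lo T hT * lv gZ * up (cS a b c) hS = r * gY * r⁻¹ := by
    rw [eq_mul_inv_iff_mul_eq]
    apply Subtype.ext
    show (fromBlocks 1 0 T 1 * fromBlocks (gZ : Matrix (Fin 2) (Fin 2) (ZMod 3)) 0 0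
        ((gZ⁻¹ : GL (Fin 2) (ZMod 3)) : Matrix (Fin 2) (Fin 2) (ZMod 3))ᵀ * fromBlocks 1 (cS a b c) 0 1) * r.1 =
      r.1 * fromBlocks y11 y12 y21 y22
    rw [hr, hZ, hZi]
    simp only [fromBlocks_multiply, Matrix.one_mul, Matrix.mul_one, Matrix.mul_zero, Matrix.zero_mul, add_zero,
      zero_add]
    rw [e1, e2, e3, e4]
  have hm : (lv gP)⁻¹ * l * lv gP ∈ Lo 2 (ZMod 3) := by
    have := Lo_conj gP⁻¹ hl
    rwa [map_inv, inv_inv] at this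
  have hm' : (lv gP)⁻¹ * (lo T hT)⁻¹ * lv gP ∈ Lo 2 (ZMod 3) := by
    have := Lo_conj gP⁻¹ (inv_mem (lo_mem hT))
    rwa [map_inv, inv_inv] at this
  obtain ⟨s, hs⟩ := conj_gX hm hm'
  refine ⟨lv gP * s, r, ?_⟩
  have e5 : l * lv A * up (cS a b c) hS = lv gP * (((lv gP)⁻¹ * l * lv gP) * lv gX * ((lv gP)⁻¹ * (lo T hT)⁻¹ * lv gP)) *
      (lv gP)⁻¹ * (lo T hT * lv gZ * up (cS a b c) hS) := by
    rw [hAe]; simp only [map_mul, map_inv]; group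
  rw [e5, hs, key]
  group

/-- **`Sp_4(3)`** -/
theorem two_sp43 : ∃ x₀ y₀ : G 2 (ZMod 3), ∀ g : G 2 (ZMod 3), g ∉ Subgroup.center (G 2 (ZMod 3)) →
    ∃ u v : G 2 (ZMod 3), g = (u * x₀ * u⁻¹) * (v * y₀ * v⁻¹) := by
  refine ⟨lv gX, gY, fun g hg => ?_⟩
  obtain ⟨t, A, C₁, D₁, E₁, htg, hC, hAdet, hAns⟩ := exists_corner (by norm_num) hg (Δ := 1) one_ne_zero
  obtain ⟨R, hR⟩ := exists_gl (M := A) (by rw [hAdet]; exact one_ne_zero)
  obtain ⟨T, S, hT, hS, e, hCS, -⟩ := gauss htg R hR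
  have hS0 : S ≠ 0 := by
    rintro rfl
    exact hC (by rw [hCS, Matrix.mul_zero])
  obtain ⟨hdet, hcomm⟩ := comp_all (A 0 0) (A 0 1) (A 1 0) (A 1 1) (by rw [← hAdet, Matrix.det_fin_two])
    (by
      rintro ⟨h1, h2, h3⟩
      apply hAns (A 0 0)
      ext i j
      fin_cases i <;> fin_cases j <;> simp [h1, h2, h3])
  have hAe : !![A 0 0, A 0 1; A 1 0, A 1 1] = A := by
    ext i j
    fin_cases i <;> fin_cases j <;> rfl
  rw [hAe] at hcomm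
  have hd0 : (cW (A 0 0) (A 0 1) (A 1 0) (A 1 1)).det ≠ 0 := by
    rw [Matrix.det_fin_two]
    exact hdet
  obtain ⟨W, hW⟩ := exists_gl hd0
  obtain ⟨K, hK⟩ : ∃ K : GL (Fin 2) (ZMod 3), (K : Matrix (Fin 2) (Fin 2) (ZMod 3)) = cA (A 0 0 + A 1 1) :=
    exists_gl (by rw [cA, Matrix.det_fin_two_of]; simp)
  have hRe : R = W * K * W⁻¹ := by
    rw [eq_mul_inv_iff_mul_eq]
    apply Units.ext
    rw [Units.val_mul, Units.val_mul, hR, hW, hK, hcomm]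
  have hup := lv_up W⁻¹ hS
  rw [map_inv, inv_inv] at hup
  obtain ⟨S', hS'⟩ : ∃ S', S' = ((W⁻¹ : GL (Fin 2) (ZMod 3)) : Matrix (Fin 2) (Fin 2) (ZMod 3)) * S *
    ((W⁻¹ : GL (Fin 2) (ZMod 3)) : Matrix (Fin 2) (Fin 2) (ZMod 3))ᵀ := ⟨_, rfl⟩
  have hS's : S'ᵀ = S' := by
    rw [hS', transpose_mul, transpose_mul, transpose_transpose, hS, Matrix.mul_assoc]
  have hup' : (lv W)⁻¹ * up S hS * lv W = up S' hS's := by
    rw [hup]
    exact up_congr _ hS'.symm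
  have hS'0 : S' ≠ 0 := by
    rintro rfl
    rw [up_zero] at hup'
    have h1 : up S hS = 1 := by
      have h2 : up S hS = lv W * ((lv W)⁻¹ * up S hS * lv W) * (lv W)⁻¹ := by group
      rw [h2, hup']; group
    have h2 := h1.trans up_zero.symm
    exact hS0 (up_inj h2)
  have hlm : (lv W)⁻¹ * lo T hT * lv W ∈ Lo 2 (ZMod 3) := by
    have := Lo_conj W⁻¹ (lo_mem hT)
    rwa [map_inv, inv_inv] at this
  obtain ⟨u, v, huv⟩ := fac_normal _ hK hS's hS'0 hlm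
  refine ⟨t⁻¹ * lv W * u, t⁻¹ * lv W * v, ?_⟩
  have e2 : g = t⁻¹ * (lv W * (((lv W)⁻¹ * lo T hT * lv W) * lv K * ((lv W)⁻¹ * up S hS * lv W)) * (lv W)⁻¹) * t := by
    have e3 : lv W * (((lv W)⁻¹ * lo T hT * lv W) * lv K * ((lv W)⁻¹ * up S hS * lv W)) * (lv W)⁻¹ = t * g * t⁻¹ := by
      rw [e, hRe]; simp only [map_mul, map_inv]; group
    rw [e3]; group
  rw [hup', huv] at e2
  rw [e2]
  group

/-- change of the field -/
def gmap {K L : Type*} [Field K] [Field L] (n : ℕ) (φ : K ≃+* L) : G n K ≃* G n L where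
  toFun g := ⟨g.1.map φ, SymplecticGroup.map_mem g.2 φ⟩
  invFun g := ⟨g.1.map φ.symm, SymplecticGroup.map_mem g.2 φ.symm⟩
  left_inv g := Subtype.ext (by
    show (g.1.map φ).map φ.symm = g.1
    rw [Matrix.map_map]
    ext i j
    exact φ.symm_apply_apply _)
  right_inv g := Subtype.ext (by
    show (g.1.map φ.symm).map φ = g.1
    rw [Matrix.map_map]
    ext i j
    exact φ.apply_symm_apply _)
  map_mul' g h := Subtype.ext (by
    show (g.1 * h.1).map φ = g.1.map φ * h.1.map φ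
    exact Matrix.map_mul)

/-- **`Sp_4(3)`**, any field with three elements -/
theorem two_sp43' {F : Type*} [Field F] [Finite F] (h3 : Nat.card F = 3) : ∃ x₀ y₀ : G 2 F, ∀ g : G 2 F,
    g ∉ Subgroup.center (G 2 F) → ∃ u v : G 2 F, g = (u * x₀ * u⁻¹) * (v * y₀ * v⁻¹) := by
  have := Fintype.ofFinite F
  have : Fact (Nat.Prime 3) := ⟨Nat.prime_three⟩
  let φ : ZMod 3 ≃+* F := ZMod.ringEquivOfPrime F Nat.prime_three (by rw [← Nat.card_eq_fintype_card, h3])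
  let e : G 2 (ZMod 3) ≃* G 2 F := gmap 2 φ
  obtain ⟨x₀, y₀, h⟩ := two_sp43
  refine ⟨e x₀, e y₀, fun g hg => ?_⟩
  obtain ⟨u, v, huv⟩ := h (e.symm g) (by
    intro hc
    apply hg
    rw [Subgroup.mem_center_iff] at hc ⊢
    intro k
    apply e.symm.injective
    rw [map_mul, map_mul, hc])
  refine ⟨e u, e v, ?_⟩
  apply e.symm.injective
  rw [huv]
  simp

end Cfsg.Agent.H140.TC.Sp

namespace Cfsg.Agent.H140.TC

open Cfsg.Agent.H140.TC.Sp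

/-- **`PSp_2m(F)`** -/
theorem tc_isPSp {G : Type*} [Group G] (h : Cfsg.IsPSp G) : TC G := by
  obtain ⟨F, _, _, m, hm, h2, ⟨e⟩⟩ := h
  refine TC.of_equiv e ?_
  by_cases hex : 3 ≤ m ∨ 4 ≤ Nat.card F
  · exact tc_psp hm F hex
  · have hm2 : m = 2 := by omega
    subst hm2
    have h3 := h2 rfl
    rw [← Nat.card_eq_fintype_card] at h3
    exact tc_of_two_sp (two_sp43' (by omega))

end Cfsg.Agent.H140.TC
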