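import Mathlib

/-!
# S4173, symplectic groups: corners

`G n F = Sp_2n(F)` as block matrices.
* `lo`, `up`, `lv` : lower and upper unipotent blocks, the Levi subgroup `GL_n(F)`.
* `exists_corner` : every noncentral element is conjugate to a matrix with blocks `A, C, D, E` where `A` is nonscalar
  of given determinant and `C ≠ 0`.
* `gauss` : `lo * lv * up` if `A` is invertible.
-/

set_option autoImplicit false

namespace Cfsg.Agent.H140.TC.Sp

open Matrix

variable {F : Type*} [Field F] {n : ℕ}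

/-- the symplectic group -/
abbrev G (n : ℕ) (F : Type*) [Field F] := Matrix.symplecticGroup (Fin n) F

theorem mem_iff {A B C D : Matrix (Fin n) (Fin n) F} : fromBlocks A B C D ∈ Matrix.symplecticGroup (Fin n) F ↔
    A * Bᵀ = B * Aᵀ ∧ C * Dᵀ = D * Cᵀ ∧ A * Dᵀ - B * Cᵀ = 1 ∧ D * Aᵀ - C * Bᵀ = 1 := by
  rw [SymplecticGroup.mem_iff, Matrix.J, fromBlocks_transpose, fromBlocks_multiply, fromBlocks_multiply,
    fromBlocks_inj]
  simp only [Matrix.mul_zero, Matrix.mul_neg, Matrix.mul_one, Matrix.neg_mul, zero_add, add_zero]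
  constructor
  · rintro ⟨h1, h2, h3, h4⟩
    refine ⟨?_, ?_, ?_, ?_⟩
    · rw [← sub_eq_zero, ← neg_eq_zero, ← h1]; abel
    · rw [← sub_eq_zero, ← neg_eq_zero, ← h4]; abel
    · rw [← neg_inj, ← h2]; abel
    · rw [← h3]; abel
  · rintro ⟨h1, h2, h3, h4⟩
    refine ⟨?_, ?_, ?_, ?_⟩
    · rw [h1]; abel
    · rw [← h3]; abel
    · rw [← h4]; abel
    · rw [h2]; abel

/-- lower unipotents -/
def lo (T : Matrix (Fin n) (Fin n) F) (hT : Tᵀ = T) : G n F := ⟨fromBlocks 1 0 T 1, by rw [mem_iff]; simp [hT]⟩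

/-- upper unipotents -/
def up (S : Matrix (Fin n) (Fin n) F) (hS : Sᵀ = S) : G n F := ⟨fromBlocks 1 S 0 1, by rw [mem_iff]; simp [hS]⟩

/-- the Levi subgroup -/
def lv : GL (Fin n) F →* G n F where
  toFun R := ⟨fromBlocks (R : Matrix (Fin n) (Fin n) F) 0 0 ((R⁻¹ : GL (Fin n) F) : Matrix (Fin n) (Fin n) F)ᵀ, by
    rw [mem_iff]
    have h1 : (R : Matrix (Fin n) (Fin n) F) * ((R⁻¹ : GL (Fin n) F) : Matrix (Fin n) (Fin n) F) = 1 := R.mul_inv
    refine ⟨by simp, by simp, ?_, ?_⟩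
    · rw [transpose_transpose, h1]; simp
    · rw [← transpose_mul, h1]; simp⟩
  map_one' := Subtype.ext (by simp)
  map_mul' R S := Subtype.ext (by
    simp only [Submonoid.coe_mul, fromBlocks_multiply, Units.val_mul, Matrix.mul_zero, Matrix.zero_mul,
      add_zero, zero_add, _root_.mul_inv_rev, transpose_mul])

theorem lo_coe (T : Matrix (Fin n) (Fin n) F) (hT : Tᵀ = T) :
    (lo T hT : Matrix (Fin n ⊕ Fin n) (Fin n ⊕ Fin n) F) = fromBlocks 1 0 T 1 := rfl

theorem up_coe (S : Matrix (Fin n) (Fin n) F) (hS : Sᵀ = S) :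
    (up S hS : Matrix (Fin n ⊕ Fin n) (Fin n ⊕ Fin n) F) = fromBlocks 1 S 0 1 := rfl

theorem lv_coe (R : GL (Fin n) F) : (lv R : Matrix (Fin n ⊕ Fin n) (Fin n ⊕ Fin n) F) =
    fromBlocks (R : Matrix (Fin n) (Fin n) F) 0 0 ((R⁻¹ : GL (Fin n) F) : Matrix (Fin n) (Fin n) F)ᵀ := rfl

theorem lo_mul {T T' : Matrix (Fin n) (Fin n) F} (hT : Tᵀ = T) (hT' : T'ᵀ = T') :
    lo T hT * lo T' hT' = lo (T + T') (by rw [transpose_add, hT, hT']) := by
  apply Subtype.ext
  simp only [Submonoid.coe_mul, lo_coe, fromBlocks_multiply]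
  simp

theorem up_mul {T T' : Matrix (Fin n) (Fin n) F} (hT : Tᵀ = T) (hT' : T'ᵀ = T') :
    up T hT * up T' hT' = up (T + T') (by rw [transpose_add, hT, hT']) := by
  apply Subtype.ext
  simp only [Submonoid.coe_mul, up_coe, fromBlocks_multiply]
  simp [add_comm]

theorem lo_zero : lo (0 : Matrix (Fin n) (Fin n) F) transpose_zero = 1 := Subtype.ext (by
  rw [lo_coe]; simp)

theorem up_zero : up (0 : Matrix (Fin n) (Fin n) F) transpose_zero = 1 := Subtype.ext (by
  rw [up_coe]; simp)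

theorem lo_inv {T : Matrix (Fin n) (Fin n) F} (hT : Tᵀ = T) :
    (lo T hT)⁻¹ = lo (-T) (by rw [transpose_neg, hT]) := by
  rw [inv_eq_iff_mul_eq_one, lo_mul]
  simp only [add_neg_cancel]
  exact lo_zero

theorem up_inv {T : Matrix (Fin n) (Fin n) F} (hT : Tᵀ = T) :
    (up T hT)⁻¹ = up (-T) (by rw [transpose_neg, hT]) := by
  rw [inv_eq_iff_mul_eq_one, up_mul]
  simp only [add_neg_cancel]
  exact up_zero

theorem lo_congr {T T' : Matrix (Fin n) (Fin n) F} (hT : Tᵀ = T) (h : T = T') :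
    lo T hT = lo T' (by rw [← h, hT]) := by subst h; rfl

theorem up_congr {T T' : Matrix (Fin n) (Fin n) F} (hT : Tᵀ = T) (h : T = T') :
    up T hT = up T' (by rw [← h, hT]) := by subst h; rfl

/-- conjugation by the Levi subgroup -/
theorem lv_up (R : GL (Fin n) F) {S : Matrix (Fin n) (Fin n) F} (hS : Sᵀ = S) :
    lv R * up S hS * (lv R)⁻¹ = up ((R : Matrix (Fin n) (Fin n) F) * S * (R : Matrix (Fin n) (Fin n) F)ᵀ)
      (by rw [transpose_mul, transpose_mul, transpose_transpose, hS, Matrix.mul_assoc]) := by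
  rw [← map_inv]
  have h1 : (R : Matrix (Fin n) (Fin n) F) * ((R⁻¹ : GL (Fin n) F) : Matrix (Fin n) (Fin n) F) = 1 := R.mul_inv
  apply Subtype.ext
  simp only [Submonoid.coe_mul, up_coe, lv_coe, fromBlocks_multiply, inv_inv, Matrix.mul_zero, Matrix.zero_mul,
    add_zero, zero_add, Matrix.mul_one, h1, ← transpose_mul, transpose_one]

theorem lv_lo (R : GL (Fin n) F) {T : Matrix (Fin n) (Fin n) F} (hT : Tᵀ = T) :
    (lv R)⁻¹ * lo T hT * (lv R) = lo ((R : Matrix (Fin n) (Fin n) F)ᵀ * T * (R : Matrix (Fin n) (Fin n) F))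
      (by rw [transpose_mul, transpose_mul, transpose_transpose, hT, Matrix.mul_assoc]) := by
  rw [← map_inv]
  have h1 : ((R⁻¹ : GL (Fin n) F) : Matrix (Fin n) (Fin n) F) * (R : Matrix (Fin n) (Fin n) F) = 1 := R.inv_mul
  apply Subtype.ext
  simp only [Submonoid.coe_mul, lo_coe, lv_coe, fromBlocks_multiply, inv_inv, Matrix.mul_zero, Matrix.zero_mul,
    add_zero, zero_add, Matrix.mul_one, h1, ← transpose_mul, transpose_one]

/-- the Gauss decomposition -/
theorem gauss {g : G n F} {A B C D : Matrix (Fin n) (Fin n) F} (hg : (g : Matrix _ _ F) = fromBlocks A B C D)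
    (R : GL (Fin n) F) (hR : (R : Matrix (Fin n) (Fin n) F) = A) : ∃ (T S : Matrix (Fin n) (Fin n) F)
    (hT : Tᵀ = T) (hS : Sᵀ = S), g = lo T hT * lv R * up S hS ∧ B = A * S ∧ C = T * A := by
  have hm : fromBlocks A B C D ∈ Matrix.symplecticGroup (Fin n) F := by rw [← hg]; exact g.2
  have hm' : (fromBlocks A B C D)ᵀ ∈ Matrix.symplecticGroup (Fin n) F := SymplecticGroup.transpose_mem hm
  rw [fromBlocks_transpose] at hm'
  obtain ⟨h1, h2, h3, h4⟩ := mem_iff.1 hm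
  obtain ⟨k1, k2, k3, k4⟩ := mem_iff.1 hm'
  simp only [transpose_transpose] at k1 k2 k3 k4
  have i1 : A * ((R⁻¹ : GL (Fin n) F) : Matrix (Fin n) (Fin n) F) = 1 := by rw [← hR]; exact R.mul_inv
  have i2 : ((R⁻¹ : GL (Fin n) F) : Matrix (Fin n) (Fin n) F) * A = 1 := by rw [← hR]; exact R.inv_mul
  obtain ⟨Ri, hRi⟩ : ∃ Ri, Ri = ((R⁻¹ : GL (Fin n) F) : Matrix (Fin n) (Fin n) F) := ⟨_, rfl⟩
  rw [← hRi] at i1 i2
  have i3 : Aᵀ * Riᵀ = 1 := by rw [← transpose_mul, i2, transpose_one]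
  have i4 : Riᵀ * Aᵀ = 1 := by rw [← transpose_mul, i1, transpose_one]
  have hS : (Ri * B)ᵀ = Ri * B := by
    rw [transpose_mul]
    calc Bᵀ * Riᵀ = Ri * (A * Bᵀ) * Riᵀ := by rw [← Matrix.mul_assoc, i2, Matrix.one_mul]
      _ = Ri * B * (Aᵀ * Riᵀ) := by rw [h1]; simp only [Matrix.mul_assoc]
      _ = Ri * B := by rw [i3, Matrix.mul_one]
  have hT : (C * Ri)ᵀ = C * Ri := by
    rw [transpose_mul]
    calc Riᵀ * Cᵀ = Riᵀ * (Cᵀ * A) * Ri := by rw [Matrix.mul_assoc, Matrix.mul_assoc, i1, Matrix.mul_one]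
      _ = (Riᵀ * Aᵀ) * C * Ri := by rw [← k1]; simp only [Matrix.mul_assoc]
      _ = C * Ri := by rw [i4, Matrix.one_mul]
  have hAS : B = A * (Ri * B) := by rw [← Matrix.mul_assoc, i1, Matrix.one_mul]
  have hTA : C = (C * Ri) * A := by rw [Matrix.mul_assoc, i2, Matrix.mul_one]
  refine ⟨C * Ri, Ri * B, hT, hS, ?_, hAS, hTA⟩
  apply Subtype.ext
  simp only [Submonoid.coe_mul, lo_coe, lv_coe, up_coe, fromBlocks_multiply, hg, Matrix.mul_zero, Matrix.zero_mul,
    Matrix.mul_one, Matrix.one_mul, add_zero, zero_add, hR]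
  rw [← hAS, ← hTA, ← hRi]
  congr 1
  -- `D = (C Ri) A (Ri B) + Riᵀ`
  have e1 : (C * Ri) * B + Riᵀ = D := by
    have h5 : D * (Aᵀ * Riᵀ) = (1 + C * Bᵀ) * Riᵀ := by
      rw [← Matrix.mul_assoc, ← h4]; simp
    rw [i3, Matrix.mul_one, Matrix.add_mul, Matrix.one_mul] at h5
    rw [h5, add_comm]
    congr 1
    rw [Matrix.mul_assoc, Matrix.mul_assoc, ← hS, transpose_mul]
  rw [← Matrix.mul_assoc, e1]

/-! ### noncentral elements -/

theorem conj_up {g : G n F} {A B C D : Matrix (Fin n) (Fin n) F} (hg : (g : Matrix _ _ F) = fromBlocks A B C D)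
    {T : Matrix (Fin n) (Fin n) F} (hT : Tᵀ = T) : ((up T hT * g * (up T hT)⁻¹ : G n F) : Matrix _ _ F) =
      fromBlocks (A + T * C) ((A + T * C) * (-T) + (B + T * D)) C (C * (-T) + D) := by
  rw [up_inv]
  simp only [Submonoid.coe_mul, up_coe, hg, fromBlocks_multiply, Matrix.one_mul, Matrix.mul_one, Matrix.mul_zero,
    Matrix.zero_mul, add_zero, zero_add]

theorem conj_lo {g : G n F} {A B C D : Matrix (Fin n) (Fin n) F} (hg : (g : Matrix _ _ F) = fromBlocks A B C D)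
    {T : Matrix (Fin n) (Fin n) F} (hT : Tᵀ = T) : ((lo T hT * g * (lo T hT)⁻¹ : G n F) : Matrix _ _ F) =
      fromBlocks (A + B * (-T)) B (T * A + C + (T * B + D) * (-T)) (T * B + D) := by
  rw [lo_inv]
  simp only [Submonoid.coe_mul, lo_coe, hg, fromBlocks_multiply, Matrix.one_mul, Matrix.mul_one, Matrix.mul_zero,
    Matrix.zero_mul, add_zero, zero_add]

theorem scalar_of_symm {A : Matrix (Fin n) (Fin n) F} (h : ∀ S : Matrix (Fin n) (Fin n) F, Sᵀ = S → A * S = S * A) :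
    ∃ a : F, A = scalar (Fin n) a := by
  have h1 : ∀ i j, i ≠ j → A i j = 0 := by
    intro i j hij
    have h2 := congrFun (congrFun (h (Matrix.single j j 1) (by rw [transpose_single])) i) j
    rw [Matrix.mul_apply, Matrix.mul_apply] at h2
    simpa [Matrix.single_apply, hij.symm] using h2
  have h2 : ∀ i j, A i i = A j j := by
    intro i j
    by_cases hij : i = j
    · rw [hij]
    have h3 := congrFun (congrFun (h (Matrix.single i j 1 + Matrix.single j i 1) (by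
      rw [transpose_add, transpose_single, transpose_single, add_comm])) i) j
    rw [Matrix.mul_apply, Matrix.mul_apply] at h3
    simpa [Matrix.single_apply, hij, Ne.symm hij, Finset.sum_add_distrib, mul_add, add_mul] using h3
  rcases isEmpty_or_nonempty (Fin n) with h0 | ⟨⟨i⟩⟩
  · exact ⟨0, by ext i; exact h0.elim i⟩
  · refine ⟨A i i, ?_⟩
    ext j k
    rw [scalar_apply, diagonal_apply]
    split_ifs with hjk
    · rw [hjk]; exact h2 _ _
    · exact h1 _ _ hjk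

/-- a noncentral element has a conjugate with nonzero upper right block -/
theorem exists_upper {g : G n F} (hg : g ∉ Subgroup.center (G n F)) : ∃ (t : G n F) (A B C D : Matrix (Fin n) (Fin n) F),
    ((t * g * t⁻¹ : G n F) : Matrix _ _ F) = fromBlocks A B C D ∧ B ≠ 0 := by
  by_contra hcon
  push Not at hcon
  obtain ⟨A, B, C, D, h⟩ : ∃ A B C D : Matrix (Fin n) (Fin n) F, (g : Matrix _ _ F) = fromBlocks A B C D :=
    ⟨_, _, _, _, (fromBlocks_toBlocks _).symm⟩
  have hB := hcon 1 A B C D (by rw [one_mul, inv_one, mul_one]; exact h)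
  have hC : C = 0 := by
    -- conjugate by `J`
    have hJ := hcon (SymplecticGroup.symJ (Fin n) F) D (-C) (-B) A (by
      have h1 : (((SymplecticGroup.symJ (Fin n) F)⁻¹ : G n F) : Matrix _ _ F) = -(Matrix.J (Fin n) F) := by
        rw [SymplecticGroup.coe_inv, SymplecticGroup.coe_J, Matrix.J_transpose, Matrix.mul_assoc, Matrix.neg_mul,
          Matrix.neg_mul, Matrix.J_squared]
        simp
      rw [Submonoid.coe_mul, Submonoid.coe_mul, h1, SymplecticGroup.coe_J, h, Matrix.J, fromBlocks_neg,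
        fromBlocks_multiply, fromBlocks_multiply]
      simp)
    exact neg_eq_zero.1 hJ
  rw [hB, hC] at h
  have hm : fromBlocks A 0 0 D ∈ Matrix.symplecticGroup (Fin n) F := by rw [← h]; exact g.2
  have h3 := (mem_iff.1 hm).2.2.1
  simp only [Matrix.zero_mul, sub_zero] at h3
  have h4 : ∀ S : Matrix (Fin n) (Fin n) F, Sᵀ = S → A * S = S * D := by
    intro S hS
    have h5 := hcon (up S hS) _ _ _ _ (conj_up h hS)
    simp only [Matrix.mul_zero, add_zero, zero_add, Matrix.mul_neg] at h5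
    rw [← sub_eq_zero, ← neg_eq_zero, ← h5]
    abel
  have h5 : A = D := by simpa using h4 1 transpose_one
  subst h5
  obtain ⟨a, ha⟩ := scalar_of_symm h4
  apply hg
  rw [Subgroup.mem_center_iff]
  intro k
  apply Subtype.ext
  have h6 : (g : Matrix _ _ F) = a • (1 : Matrix (Fin n ⊕ Fin n) (Fin n ⊕ Fin n) F) := by
    rw [h, ha, ← fromBlocks_one, fromBlocks_smul, smul_zero]
    congr 1 <;> simp [Matrix.smul_one_eq_diagonal]
  rw [Submonoid.coe_mul, Submonoid.coe_mul, h6, Matrix.mul_smul, Matrix.smul_mul, Matrix.mul_one, Matrix.one_mul]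

/-! ### the corner -/

/-- two normal forms with determinant `Δ` -/
theorem exists_pair (hn : 2 ≤ n) {M : Matrix (Fin n) (Fin n) F} {d : Fin n → F}
    (hM : ∀ i j, M i j * d j = M j i * d i) (hk : ∀ x : Fin n → F, x ᵥ* M = 0 → (∀ i, x i * d i = 0) → x = 0)
    (hd : d ≠ 0) {Δ : F} (hΔ : Δ ≠ 0) :
    ∃ N₁ N₂ : Matrix (Fin n) (Fin n) F, N₁.det = Δ ∧ N₂.det = Δ ∧
      (∀ i j, N₁ i j * d j = N₁ j i * d i) ∧ (∀ i j, N₂ i j * d j = N₂ j i * d i) ∧
      (∀ i, d i = 0 → N₁ i = M i) ∧ (∀ i, d i = 0 → N₂ i = M i) ∧ ∃ i j, N₁ i j = 0 ∧ N₂ i j ≠ 0 := by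
  classical
  obtain ⟨i₀, hi₀⟩ : ∃ i, d i ≠ 0 := by
    by_contra hcon
    push Not at hcon
    exact hd (funext hcon)
  obtain ⟨N0, hN0⟩ : ∃ N0 : Matrix (Fin n) (Fin n) F, N0 = fun i => if d i = 0 then M i else Pi.single i 1 :=
    ⟨_, rfl⟩
  have hN0z : ∀ i, d i = 0 → N0 i = M i := fun i hi => by rw [hN0]; simp [hi]
  have hN0n : ∀ i, d i ≠ 0 → N0 i = Pi.single i 1 := fun i hi => by rw [hN0]; simp [hi]
  have hMz : ∀ i j, d i = 0 → d j ≠ 0 → M i j = 0 := fun i j hi hj => by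
    have h1 := hM i j
    rw [hi, mul_zero] at h1
    exact (mul_eq_zero.1 h1).resolve_right hj
  have hdet0 : N0.det ≠ 0 := by
    intro h0
    obtain ⟨x, hx0, hx⟩ := Matrix.exists_vecMul_eq_zero_iff.2 h0
    have h1 : ∀ i, x i * d i = 0 := by
      intro i
      by_cases hi : d i = 0
      · rw [hi, mul_zero]
      · have h2 := congrFun hx i
        rw [Matrix.vecMul, dotProduct, Pi.zero_apply, Finset.sum_eq_single i] at h2
        · rw [hN0n i hi, Pi.single_eq_same, mul_one] at h2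
          rw [h2, zero_mul]
        · intro j _ hji
          by_cases hj : d j = 0
          · rw [hN0z j hj, hMz j i hj hi, mul_zero]
          · rw [hN0n j hj, Pi.single_eq_of_ne hji.symm, mul_zero]
        · intro h; exact absurd (Finset.mem_univ i) h
    apply hx0
    apply hk x _ h1
    rw [← hx]
    ext j
    rw [Matrix.vecMul, Matrix.vecMul, dotProduct, dotProduct]
    refine Finset.sum_congr rfl fun i _ => ?_
    by_cases hi : d i = 0
    · rw [hN0z i hi]
    · rw [(mul_eq_zero.1 (h1 i)).resolve_right hi, zero_mul, zero_mul]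
  obtain ⟨δ, hδ⟩ : ∃ δ, δ = Δ / N0.det := ⟨_, rfl⟩
  have hδ0 : δ ≠ 0 := by rw [hδ]; exact div_ne_zero hΔ hdet0
  have hδΔ : δ * N0.det = Δ := by rw [hδ]; field_simp
  have hsm : (Pi.single i₀ δ : Fin n → F) = δ • (Pi.single i₀ 1 : Fin n → F) := by
    rw [← Pi.single_smul, smul_eq_mul, mul_one]
  have hupd : N0.updateRow i₀ (Pi.single i₀ 1) = N0 := by
    rw [← hN0n i₀ hi₀]
    exact Matrix.updateRow_eq_self N0 i₀
  have hdet1 : (N0.updateRow i₀ (Pi.single i₀ δ)).det = Δ := by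
    rw [hsm, Matrix.det_updateRow_smul, hupd, hδΔ]
  have hrow0 : ∀ i j, i ≠ i₀ → (N0.updateRow i₀ (Pi.single i₀ δ)) i j = N0 i j := fun i j hi => by
    rw [Matrix.updateRow_ne hi]
  have hN0s : ∀ i j, N0 i j * d j = N0 j i * d i := by
    intro i j
    by_cases hi : d i = 0
    · by_cases hj : d j = 0
      · rw [hi, hj, mul_zero, mul_zero]
      · rw [hN0z i hi, hi, mul_zero, hMz i j hi hj, zero_mul]
    · by_cases hj : d j = 0
      · rw [hN0z j hj, hj, mul_zero, hMz j i hj hi, zero_mul]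
      · rw [hN0n i hi, hN0n j hj]
        by_cases hij : i = j
        · rw [hij]
        · rw [Pi.single_eq_of_ne (Ne.symm hij), Pi.single_eq_of_ne hij, zero_mul, zero_mul]
  have hN1s : ∀ i j, (N0.updateRow i₀ (Pi.single i₀ δ)) i j * d j = (N0.updateRow i₀ (Pi.single i₀ δ)) j i * d i := by
    have key : ∀ j, j ≠ i₀ → (N0.updateRow i₀ (Pi.single i₀ δ)) i₀ j * d j =
        (N0.updateRow i₀ (Pi.single i₀ δ)) j i₀ * d i₀ := by
      intro j hj
      rw [hrow0 j i₀ hj, Matrix.updateRow_self, Pi.single_eq_of_ne hj, zero_mul, ← hN0s i₀ j, hN0n i₀ hi₀,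
        Pi.single_eq_of_ne hj, zero_mul]
    intro i j
    by_cases hi : i = i₀
    · by_cases hj : j = i₀
      · rw [hi, hj]
      · rw [hi]; exact key j hj
    · by_cases hj : j = i₀
      · rw [hj]; exact (key i hi).symm
      · rw [hrow0 i j hi, hrow0 j i hj]; exact hN0s i j
  have hN1z : ∀ i, d i = 0 → (N0.updateRow i₀ (Pi.single i₀ δ)) i = M i := fun i hi => by
    rw [Matrix.updateRow_ne (by rintro rfl; exact hi₀ hi)]
    exact hN0z i hi
  by_cases hO : ∃ o, d o = 0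
  · obtain ⟨o, ho⟩ := hO
    have hoi : o ≠ i₀ := by rintro rfl; exact hi₀ ho
    have hadd : (N0.updateRow i₀ (Pi.single i₀ δ + Pi.single o 1)).det = Δ := by
      rw [Matrix.det_updateRow_add, hdet1, add_eq_left]
      apply Matrix.det_eq_zero_of_column_eq_zero i₀
      intro i
      by_cases hi : i = i₀
      · rw [hi, Matrix.updateRow_self, Pi.single_eq_of_ne hoi.symm]
      · rw [Matrix.updateRow_ne hi]
        by_cases hdi : d i = 0
        · rw [hN0z i hdi, hMz i i₀ hdi hi₀]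
        · rw [hN0n i hdi, Pi.single_eq_of_ne (Ne.symm hi)]
    refine ⟨_, N0.updateRow i₀ (Pi.single i₀ δ + Pi.single o 1), hdet1, hadd, hN1s, ?_, hN1z, ?_, i₀, o, ?_, ?_⟩
    · have key : ∀ j, j ≠ i₀ → (N0.updateRow i₀ (Pi.single i₀ δ + Pi.single o 1)) i₀ j * d j =
          (N0.updateRow i₀ (Pi.single i₀ δ + Pi.single o 1)) j i₀ * d i₀ := by
        intro j hj
        rw [Matrix.updateRow_ne hj, Matrix.updateRow_self, Pi.add_apply, Pi.single_eq_of_ne hj, zero_add,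
          ← hN0s i₀ j, hN0n i₀ hi₀, Pi.single_eq_of_ne hj, zero_mul]
        by_cases hjo : j = o
        · rw [hjo, ho, mul_zero]
        · rw [Pi.single_eq_of_ne hjo, zero_mul]
      intro i j
      by_cases hi : i = i₀
      · by_cases hj : j = i₀
        · rw [hi, hj]
        · rw [hi]; exact key j hj
      · by_cases hj : j = i₀
        · rw [hj]; exact (key i hi).symm
        · rw [Matrix.updateRow_ne hi, Matrix.updateRow_ne hj]; exact hN0s i j
    · intro i hi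
      rw [Matrix.updateRow_ne (by rintro rfl; exact hi₀ hi)]
      exact hN0z i hi
    · rw [Matrix.updateRow_self, Pi.single_eq_of_ne hoi]
    · rw [Matrix.updateRow_self, Pi.add_apply, Pi.single_eq_of_ne hoi, Pi.single_eq_same, zero_add]
      exact one_ne_zero
  · push Not at hO
    obtain ⟨i₁, hi₁⟩ : ∃ i₁ : Fin n, i₁ ≠ i₀ := by
      have : Nontrivial (Fin n) := Fin.nontrivial_iff_two_le.2 hn
      exact exists_ne i₀
    obtain ⟨B, hB⟩ : ∃ B, B = N0.updateRow i₀ (Pi.single i₀ δ) := ⟨_, rfl⟩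
    rw [← hB] at hdet1 hN1s hN1z hrow0
    have hB0 : B i₀ = Pi.single i₀ δ := by rw [hB, Matrix.updateRow_self]
    have hBn : ∀ i, i ≠ i₀ → B i = Pi.single i 1 := fun i hi => by
      rw [hB, Matrix.updateRow_ne hi, hN0n i (hO i)]
    obtain ⟨B', hB'⟩ : ∃ B', B' = B.updateRow i₁ (B i₁ + (d i₁ / δ) • B i₀) := ⟨_, rfl⟩
    have hB'd : B'.det = Δ := by rw [hB', Matrix.det_updateRow_add_smul_self B hi₁, hdet1]
    obtain ⟨B2, hB2⟩ : ∃ B2, B2 = B'.updateRow i₀ (B' i₀ + (d i₀) • B' i₁) := ⟨_, rfl⟩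
    have hB2d : B2.det = Δ := by rw [hB2, Matrix.det_updateRow_add_smul_self B' hi₁.symm, hB'd]
    have r1' : B' i₁ = Pi.single i₁ 1 + Pi.single i₀ (d i₁) := by
      rw [hB', Matrix.updateRow_self, hBn i₁ hi₁, hB0]
      congr 1
      rw [← Pi.single_smul, smul_eq_mul, div_mul_cancel₀ _ hδ0]
    have r0' : B' i₀ = Pi.single i₀ δ := by rw [hB', Matrix.updateRow_ne hi₁.symm, hB0]
    have r0 : B2 i₀ = Pi.single i₀ (δ + d i₀ * d i₁) + Pi.single i₁ (d i₀) := by
      rw [hB2, Matrix.updateRow_self, r0', r1', smul_add, ← Pi.single_smul, ← Pi.single_smul, smul_eq_mul,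
        smul_eq_mul, mul_one, Pi.single_add]
      abel
    have r1 : B2 i₁ = Pi.single i₁ 1 + Pi.single i₀ (d i₁) := by
      rw [hB2, Matrix.updateRow_ne hi₁, r1']
    have rn : ∀ i, i ≠ i₀ → i ≠ i₁ → B2 i = Pi.single i 1 := fun i h0 h1 => by
      rw [hB2, Matrix.updateRow_ne h0, hB', Matrix.updateRow_ne h1, hBn i h0]
    refine ⟨B, B2, hdet1, hB2d, hN1s, ?_, hN1z, fun i hi => absurd hi (hO i), i₀, i₁, ?_, ?_⟩
    · have k1 : ∀ j, j ≠ i₀ → j ≠ i₁ → B2 i₀ j * d j = B2 j i₀ * d i₀ := fun j h0 h1 => by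
        rw [rn j h0 h1, r0, Pi.add_apply, Pi.single_eq_of_ne h0, Pi.single_eq_of_ne h1, Pi.single_eq_of_ne h0.symm]
        simp
      have k2 : ∀ j, j ≠ i₀ → j ≠ i₁ → B2 i₁ j * d j = B2 j i₁ * d i₁ := fun j h0 h1 => by
        rw [rn j h0 h1, r1, Pi.add_apply, Pi.single_eq_of_ne h0, Pi.single_eq_of_ne h1, Pi.single_eq_of_ne h1.symm]
        simp
      have k3 : B2 i₀ i₁ * d i₁ = B2 i₁ i₀ * d i₀ := by
        rw [r0, r1, Pi.add_apply, Pi.add_apply, Pi.single_eq_of_ne hi₁, Pi.single_eq_of_ne hi₁.symm,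
          Pi.single_eq_same, Pi.single_eq_same]
        ring
      intro i j
      by_cases hi0 : i = i₀
      · subst hi0
        by_cases hj0 : j = i
        · rw [hj0]
        · by_cases hj1 : j = i₁
          · rw [hj1]; exact k3
          · exact k1 j hj0 hj1
      · by_cases hi1 : i = i₁
        · subst hi1
          by_cases hj0 : j = i₀
          · rw [hj0]; exact k3.symm
          · by_cases hj1 : j = i
            · rw [hj1]
            · exact k2 j hj0 hj1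
        · by_cases hj0 : j = i₀
          · rw [hj0]; exact (k1 i hi0 hi1).symm
          · by_cases hj1 : j = i₁
            · rw [hj1]; exact (k2 i hi0 hi1).symm
            · rw [rn i hi0 hi1, rn j hj0 hj1]
              by_cases hij : i = j
              · rw [hij]
              · rw [Pi.single_eq_of_ne (Ne.symm hij), Pi.single_eq_of_ne hij, zero_mul, zero_mul]
    · rw [hB0, Pi.single_eq_of_ne hi₁]
    · rw [r0, Pi.add_apply, Pi.single_eq_of_ne hi₁, Pi.single_eq_same, zero_add]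
      exact hi₀

theorem exists_adjust (hn : 2 ≤ n) {A C : Matrix (Fin n) (Fin n) F} (hAC : A * Cᵀ = C * Aᵀ)
    (hk : ∀ x : Fin n → F, x ᵥ* A = 0 → x ᵥ* C = 0 → x = 0) (hC : C ≠ 0) {Δ : F} (hΔ : Δ ≠ 0) :
    ∃ T : Matrix (Fin n) (Fin n) F, Tᵀ = T ∧ (A + C * T).det = Δ ∧ ∀ a, A + C * T ≠ scalar (Fin n) a := by
  classical
  obtain ⟨L, L', d, hd⟩ := Matrix.Pivot.exists_list_transvec_mul_mul_list_transvec_eq_diagonal C
  obtain ⟨P, hP⟩ : ∃ P, P = (L.map TransvectionStruct.toMatrix).prod := ⟨_, rfl⟩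
  obtain ⟨Q, hQ⟩ : ∃ Q, Q = (L'.map TransvectionStruct.toMatrix).prod := ⟨_, rfl⟩
  have hPd : P.det = 1 := by rw [hP]; exact TransvectionStruct.det_toMatrix_prod L
  have hQd : Q.det = 1 := by rw [hQ]; exact TransvectionStruct.det_toMatrix_prod L'
  rw [← hP, ← hQ] at hd
  have hPu : IsUnit P.det := by rw [hPd]; exact isUnit_one
  have hQu : IsUnit Q.det := by rw [hQd]; exact isUnit_one
  have p1 := Matrix.nonsing_inv_mul P hPu
  have p2 := Matrix.mul_nonsing_inv P hPu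
  have q1 := Matrix.nonsing_inv_mul Q hQu
  have q2 := Matrix.mul_nonsing_inv Q hQu
  have q3 : Qᵀ * (Q⁻¹)ᵀ = 1 := by rw [← transpose_mul, q1, transpose_one]
  have q4 : (Q⁻¹)ᵀ * Qᵀ = 1 := by rw [← transpose_mul, q2, transpose_one]
  have hQid : ((Q⁻¹)ᵀ).det = 1 := by
    rw [det_transpose, Matrix.det_nonsing_inv, hQd]; simp
  obtain ⟨M, hMe⟩ : ∃ M, M = P * A * (Q⁻¹)ᵀ := ⟨_, rfl⟩
  have hd0 : d ≠ 0 := by
    rintro rfl
    apply hC
    have h1 : C = P⁻¹ * (P * C * Q) * Q⁻¹ := by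
      calc C = (P⁻¹ * P) * C * (Q * Q⁻¹) := by rw [p1, q2, Matrix.one_mul, Matrix.mul_one]
        _ = _ := by simp only [Matrix.mul_assoc]
    rw [h1, hd]
    simp
  have hMs : ∀ i j, M i j * d j = M j i * d i := by
    have h1 : M * diagonal d = P * (A * Cᵀ) * Pᵀ := by
      have h2 : diagonal d = Qᵀ * Cᵀ * Pᵀ := by
        rw [← diagonal_transpose d, ← hd, transpose_mul, transpose_mul, Matrix.mul_assoc]
      rw [h2, hMe]
      calc P * A * (Q⁻¹)ᵀ * (Qᵀ * Cᵀ * Pᵀ) = P * A * ((Q⁻¹)ᵀ * Qᵀ) * Cᵀ * Pᵀ := by simp only [Matrix.mul_assoc]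
        _ = _ := by rw [q4, Matrix.mul_one]; simp only [Matrix.mul_assoc]
    have h2 : (M * diagonal d)ᵀ = M * diagonal d := by
      rw [h1, transpose_mul, transpose_mul, transpose_mul, transpose_transpose, transpose_transpose, hAC]
      simp only [Matrix.mul_assoc]
    intro i j
    have h3 := congrFun (congrFun h2 i) j
    rw [transpose_apply, mul_diagonal, mul_diagonal] at h3
    exact h3.symm
  have hMk : ∀ x : Fin n → F, x ᵥ* M = 0 → (∀ i, x i * d i = 0) → x = 0 := by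
    intro x hx hxd
    have h1 : (x ᵥ* P) ᵥ* A = 0 := by
      have h2 : (x ᵥ* M) ᵥ* Qᵀ = (x ᵥ* P) ᵥ* A := by
        rw [Matrix.vecMul_vecMul, Matrix.vecMul_vecMul, hMe, Matrix.mul_assoc (P * A), q4, Matrix.mul_one]
      rw [← h2, hx, Matrix.zero_vecMul]
    have h2 : (x ᵥ* P) ᵥ* C = 0 := by
      have h3 : (x ᵥ* diagonal d) ᵥ* Q⁻¹ = (x ᵥ* P) ᵥ* C := by
        rw [Matrix.vecMul_vecMul, Matrix.vecMul_vecMul, ← hd, Matrix.mul_assoc (P * C), q2, Matrix.mul_one]
      have h4 : x ᵥ* diagonal d = 0 := by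
        ext i
        rw [Matrix.vecMul_diagonal]
        exact hxd i
      rw [← h3, h4, Matrix.zero_vecMul]
    have h3 := hk _ h1 h2
    have h4 : (x ᵥ* P) ᵥ* P⁻¹ = x := by rw [Matrix.vecMul_vecMul, p2, Matrix.vecMul_one]
    rw [← h4, h3, Matrix.zero_vecMul]
  obtain ⟨N₁, N₂, hN₁, hN₂, hs₁, hs₂, hz₁, hz₂, i, j, h₁, h₂⟩ := exists_pair hn hMs hMk hd0 hΔ
  have key : ∀ N : Matrix (Fin n) (Fin n) F, (∀ i j, N i j * d j = N j i * d i) → (∀ i, d i = 0 → N i = M i) →
      ∃ T : Matrix (Fin n) (Fin n) F, Tᵀ = T ∧ P * (A + C * T) * (Q⁻¹)ᵀ = N := by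
    intro N hs hz
    obtain ⟨T', hT'⟩ : ∃ T' : Matrix (Fin n) (Fin n) F, T' = fun i j => if d i = 0 then
      (if d j = 0 then 0 else (N j i - M j i) / d j) else (N i j - M i j) / d i := ⟨_, rfl⟩
    have hT's : T'ᵀ = T' := by
      ext i j
      rw [transpose_apply, hT']
      by_cases hi : d i = 0
      · by_cases hj : d j = 0
        · simp [hi, hj]
        · simp [hi, hj]
      · by_cases hj : d j = 0
        · simp [hi, hj]
        · simp only [hi, hj, if_false]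
          rw [div_eq_div_iff hj hi]
          linear_combination hs j i - hMs j i
    refine ⟨Q * T' * Qᵀ, ?_, ?_⟩
    · rw [transpose_mul, transpose_mul, transpose_transpose, hT's, Matrix.mul_assoc]
    · have h1 : P * (A + C * (Q * T' * Qᵀ)) * (Q⁻¹)ᵀ = M + diagonal d * T' := by
        rw [Matrix.mul_add, Matrix.add_mul, ← hMe, ← hd]
        congr 1
        calc P * (C * (Q * T' * Qᵀ)) * (Q⁻¹)ᵀ = P * C * Q * T' * (Qᵀ * (Q⁻¹)ᵀ) := by simp only [Matrix.mul_assoc]
          _ = _ := by rw [q3, Matrix.mul_one]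
      rw [h1]
      ext i j
      rw [Matrix.add_apply, diagonal_mul, hT']
      by_cases hi : d i = 0
      · simp only [hi, zero_mul, add_zero]
        rw [hz i hi]
      · simp only [hi, if_false]
        rw [mul_div_cancel₀ _ hi]
        ring
  obtain ⟨T₁, hT₁, e₁⟩ := key N₁ hs₁ hz₁
  obtain ⟨T₂, hT₂, e₂⟩ := key N₂ hs₂ hz₂
  have hdet : ∀ (T N : Matrix (Fin n) (Fin n) F), P * (A + C * T) * (Q⁻¹)ᵀ = N → (A + C * T).det = N.det := by
    intro T N h
    rw [← h, det_mul, det_mul, hPd, hQid, one_mul, mul_one]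
  by_contra hcon
  push Not at hcon
  obtain ⟨a, ha⟩ := hcon T₁ hT₁ (by rw [hdet T₁ N₁ e₁, hN₁])
  obtain ⟨b, hb⟩ := hcon T₂ hT₂ (by rw [hdet T₂ N₂ e₂, hN₂])
  have hab : a • N₂ = b • N₁ := by
    rw [← e₁, ← e₂, ha, hb]
    have h3 : ∀ c : F, P * scalar (Fin n) c * (Q⁻¹)ᵀ = c • (P * (Q⁻¹)ᵀ) := by
      intro c
      rw [scalar_apply, ← smul_one_eq_diagonal, Matrix.mul_smul, Matrix.mul_one, Matrix.smul_mul]
    rw [h3, h3, smul_smul, smul_smul, mul_comm]
  have ha0 : a ≠ 0 := by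
    rintro rfl
    rw [map_zero] at ha
    apply hΔ
    rw [← hN₁, ← hdet T₁ N₁ e₁, ha]
    have : Nonempty (Fin n) := ⟨⟨0, by omega⟩⟩
    exact det_zero
  have h3 := congrFun (congrFun hab i) j
  rw [Matrix.smul_apply, Matrix.smul_apply, h₁, smul_zero, smul_eq_mul] at h3
  exact (mul_ne_zero ha0 h₂) h3

/-- **The corner.** -/
theorem exists_corner (hn : 2 ≤ n) {g : G n F} (hg : g ∉ Subgroup.center (G n F)) {Δ : F} (hΔ : Δ ≠ 0) :
    ∃ (t : G n F) (A B C D : Matrix (Fin n) (Fin n) F), ((t * g * t⁻¹ : G n F) : Matrix _ _ F) = fromBlocks A B C D ∧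
      B ≠ 0 ∧ A.det = Δ ∧ ∀ a, A ≠ scalar (Fin n) a := by
  obtain ⟨t, A, B, C, D, h, hB⟩ := exists_upper hg
  have hm : fromBlocks A B C D ∈ Matrix.symplecticGroup (Fin n) F := by rw [← h]; exact (t * g * t⁻¹).2
  obtain ⟨h1, h2, h3, h4⟩ := mem_iff.1 hm
  obtain ⟨T, hT, hdet, hns⟩ := exists_adjust hn h1 (fun x hx hx' => by
    have h5 : x ᵥ* (A * Dᵀ - B * Cᵀ) = 0 := by
      rw [Matrix.vecMul_sub, ← Matrix.vecMul_vecMul, ← Matrix.vecMul_vecMul, hx, hx']
      simp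
    rwa [h3, Matrix.vecMul_one] at h5) hB hΔ
  have hT' : (-T)ᵀ = -T := by rw [transpose_neg, hT]
  have e := conj_lo h hT'
  rw [neg_neg] at e
  have e2 : lo (-T) hT' * t * g * (lo (-T) hT' * t)⁻¹ = lo (-T) hT' * (t * g * t⁻¹) * (lo (-T) hT')⁻¹ := by group
  rw [← e2] at e
  exact ⟨_, _, _, _, _, e, hB, hdet, hns⟩

end Cfsg.Agent.H140.TC.Sp
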