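import Cfsg.Agent.H140.TC.Cop
import Cfsg.Agent.H295.War.Mul

/-!
# S4173, symplectic groups: linear algebra

* `exists_mul_conj_phi` : `A = P X₀ P⁻¹ * Q diag(c, B₀) Q⁻¹` where `Q` maps a prescribed covector to a multiple of the
  first coordinate.
* `exists_aniso` : an anisotropic vector which is not an eigenvector.
* `conj_two` : conjugacy in `SL_2(F)` for irreducible characteristic polynomials.
-/

set_option autoImplicit false

namespace Cfsg.Agent.H140.TC.Sp

open Module Matrix Polynomial Cfsg.Agent.H962.PP Cfsg.Agent.H295.War Cfsg.Agent.H126.PwO Cfsg.Agent.H140.OreO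

variable {F : Type*} [Field F]

theorem exists_mul_conj_phi {k : ℕ} (A : Matrix (Fin (k + 2)) (Fin (k + 2)) F)
    {v0 : Fin (k + 2) → F} (hv0 : v0 ≠ 0) (hvA : v0 ᵥ* A ∉ Submodule.span F {v0})
    (X₀ : Matrix (Fin (k + 2)) (Fin (k + 2)) F)
    (hX : Cyc X₀) (hXd : X₀.det ≠ 0) (B₀ : Matrix (Fin (k + 1)) (Fin (k + 1)) F) (hB : Cyc B₀)
    (hBd : B₀.det ≠ 0) (c : F) (hc0 : c ≠ 0) (hc : B₀.charpoly.eval c ≠ 0)
    (hdet : A.det = X₀.det * (c * B₀.det)) :
    ∃ P Q : Matrix (Fin (k + 2)) (Fin (k + 2)) F, IsUnit P.det ∧ IsUnit Q.det ∧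
      A = (P * X₀ * P⁻¹) * (Q * blk c B₀ * Q⁻¹) ∧ ∃ a : F, a ≠ 0 ∧ v0 ᵥ* Q = Pi.single 0 a := by
  have hAd : A.det ≠ 0 := by rw [hdet]; exact mul_ne_zero hXd (mul_ne_zero hc0 hBd)
  obtain ⟨R, L, hR, hRL, hL, hL01, hR0⟩ := exists_hess' A hv0 hvA
  have hRR : R⁻¹ * R = 1 := Matrix.nonsing_inv_mul _ hR
  have hRR' : R * R⁻¹ = 1 := Matrix.mul_nonsing_inv _ hR
  have hLdet : L.det = A.det := by
    have h1 : R.det * A.det = L.det * R.det := by rw [← det_mul, ← det_mul, hRL]
    rw [mul_comm L.det] at h1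
    exact (mul_left_cancel₀ hR.ne_zero h1).symm
  obtain ⟨x, y, hxy, hxp, hxm, hy0, hyc, hyf, hym⟩ :=
    hess hL (by rw [hLdet]; exact hAd) hL01 X₀.charpoly_monic
      (by rw [X₀.charpoly_natDegree_eq_dim, Fintype.card_fin]) (det_ne_zero_iff.mp hXd)
      B₀.charpoly_monic (by rw [B₀.charpoly_natDegree_eq_dim, Fintype.card_fin])
      (det_ne_zero_iff.mp hBd)
  have hdx : x.det = X₀.det := by
    rw [Matrix.det_eq_sign_charpoly_coeff, Matrix.det_eq_sign_charpoly_coeff, hxp]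
  have hdy : (y.submatrix Fin.succ Fin.succ).det = B₀.det := by
    rw [Matrix.det_eq_sign_charpoly_coeff, Matrix.det_eq_sign_charpoly_coeff, hyf]
  have hdy' : y.det = y 0 0 * B₀.det := by
    have h1 : y.det = (blk (y 0 0) (y.submatrix Fin.succ Fin.succ)).det := by
      rw [Matrix.det_eq_sign_charpoly_coeff, Matrix.det_eq_sign_charpoly_coeff,
        charpoly_of_row y hy0, blk_charpoly]
    rw [h1, blk_det, hdy]
  have hcy : y 0 0 = c := by
    have h1 : x.det * y.det = A.det := by rw [← det_mul, hxy, hLdet]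
    rw [hdx, hdy', hdet] at h1
    have h2 := mul_left_cancel₀ hXd h1
    exact mul_right_cancel₀ hBd h2
  have hyCyc : Cyc y := cyc_of_row hy0 hym (by rw [hyf, hcy]; exact hc)
  obtain ⟨P, hP, hPx⟩ := conj_of_cyc hX hxm hxp.symm
  obtain ⟨Q, hQ, hQy⟩ := conj_of_cyc (cyc_blk hB hc) hyCyc (by
    rw [charpoly_of_row y hy0, blk_charpoly, hyf, hcy])
  have hsplit : A = (R⁻¹ * x * R) * (R⁻¹ * y * R) := by
    have h1 : R⁻¹ * x * R * (R⁻¹ * y * R) = R⁻¹ * x * (R * R⁻¹) * y * R := by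
      simp only [mul_assoc]
    rw [h1, hRR', mul_one, mul_assoc (R⁻¹), hxy, mul_assoc, ← hRL, ← mul_assoc, hRR, one_mul]
  have hRinv : IsUnit (R⁻¹).det := by
    rw [Matrix.det_nonsing_inv]; exact hR.ringInverse
  have hRi : R⁻¹⁻¹ = R := Matrix.nonsing_inv_nonsing_inv _ hR
  refine ⟨R⁻¹ * P, R⁻¹ * Q, by rw [det_mul]; exact hRinv.mul hP, by rw [det_mul]; exact hRinv.mul hQ, ?_, ?_⟩
  · have e1 : R⁻¹ * P * X₀ * (R⁻¹ * P)⁻¹ = R⁻¹ * x * R := by
      rw [Matrix.mul_inv_rev, hRi, hPx]; simp only [mul_assoc]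
    have e2 : R⁻¹ * Q * blk c B₀ * (R⁻¹ * Q)⁻¹ = R⁻¹ * y * R := by
      rw [Matrix.mul_inv_rev, hRi, hQy]; simp only [mul_assoc]
    rw [e1, e2]
    exact hsplit
  · -- the row vector
    have hQQ : Q * Q⁻¹ = 1 := Matrix.mul_nonsing_inv _ hQ
    have hQQ' : Q⁻¹ * Q = 1 := Matrix.nonsing_inv_mul _ hQ
    have hv0R : v0 ᵥ* R⁻¹ = Pi.single 0 1 := by
      have h1 : (Pi.single 0 1 : Fin (k + 2) → F) ᵥ* R = v0 := by
        rw [Matrix.single_one_vecMul, ← hR0]
        rfl
      rw [← h1, Matrix.vecMul_vecMul, hRR', Matrix.vecMul_one]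
    obtain ⟨w, hw⟩ : ∃ w, w = (Pi.single 0 1 : Fin (k + 2) → F) ᵥ* Q := ⟨_, rfl⟩
    have hwb : w ᵥ* blk c B₀ = c • w := by
      have h1 : (Pi.single 0 1 : Fin (k + 2) → F) ᵥ* y = c • (Pi.single 0 1 : Fin (k + 2) → F) := by
        rw [Matrix.single_one_vecMul]
        ext j
        refine Fin.cases ?_ (fun i => ?_) j
        · simp [hcy]
        · show y 0 i.succ = _
          rw [hy0]
          simp [Fin.succ_ne_zero]
      rw [hw, ← Matrix.smul_vecMul, ← h1, Matrix.vecMul_vecMul, Matrix.vecMul_vecMul, hQy]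
      congr 1
      rw [mul_assoc, hQQ', mul_one]
    have hws : ∀ i : Fin (k + 1), w i.succ = 0 := by
      by_contra hcon
      push Not at hcon
      obtain ⟨i, hi⟩ := hcon
      apply hc
      obtain ⟨u, hu⟩ : ∃ u : Fin (k + 1) → F, u = fun i => w i.succ := ⟨_, rfl⟩
      have hu0 : u ≠ 0 := fun h => hi (by rw [hu] at h; exact congrFun h i)
      have hub : u ᵥ* B₀ = c • u := by
        ext j
        have h1 := congrFun hwb j.succ
        rw [Matrix.vecMul, dotProduct, Fin.sum_univ_succ] at h1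
        simp only [blk_zero_succ, mul_zero, zero_add, blk_succ_succ] at h1
        rw [Matrix.vecMul, dotProduct, hu]
        exact h1
      rw [Matrix.eval_charpoly]
      apply Matrix.exists_vecMul_eq_zero_iff.1
      refine ⟨u, hu0, ?_⟩
      rw [Matrix.vecMul_sub, hub, sub_eq_zero]
      ext j
      rw [Matrix.scalar_apply, Matrix.vecMul_diagonal, Pi.smul_apply, smul_eq_mul, mul_comm]
    refine ⟨w 0, ?_, ?_⟩
    · intro h0
      have hw0 : w = 0 := by
        ext j
        refine Fin.cases h0 (fun i => hws i) j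
      have h1 : (Pi.single 0 1 : Fin (k + 2) → F) = 0 := by
        have h2 : w ᵥ* Q⁻¹ = Pi.single 0 1 := by
          rw [hw, Matrix.vecMul_vecMul, hQQ, Matrix.vecMul_one]
        rw [← h2, hw0, Matrix.zero_vecMul]
      have h2 := congrFun h1 0
      simp at h2
    · rw [← Matrix.vecMul_vecMul, hv0R, ← hw]
      ext j
      refine Fin.cases ?_ (fun i => ?_) j
      · simp
      · rw [hws i]; simp [Fin.succ_ne_zero]

/-- an anisotropic vector which is not an eigenvector -/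
theorem exists_aniso {V : Type*} [AddCommGroup V] [Module F V] [FiniteDimensional F V] (h2 : (2 : F) ≠ 0)
    (b : LinearMap.BilinForm F V) (hs : ∀ x y, b x y = b y x) (hb : b ≠ 0) (A : V →ₗ[F] V)
    (hA : ∀ c : F, ∃ v, A v ≠ c • v) (hex : 3 ≤ finrank F V ∨ ∃ t : F, t ≠ 0 ∧ t ^ 2 ≠ 1) :
    ∃ v, b v v ≠ 0 ∧ A v ∉ Submodule.span F {v} := by
  by_contra hcon
  push Not at hcon
  have hcon' : ∀ v, b v v ≠ 0 → ∃ μ : F, A v = μ • v := fun v hv => by
    obtain ⟨μ, hμ⟩ := Submodule.mem_span_singleton.1 (hcon v hv)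
    exact ⟨μ, hμ.symm⟩
  have hadd : ∀ x y, b (x + y) (x + y) = b x x + 2 * b x y + b y y := by
    intro x y
    simp only [map_add, LinearMap.add_apply, hs y x]; ring
  have hsub : ∀ x y, b (x - y) (x - y) = b x x - 2 * b x y + b y y := by
    intro x y
    simp only [map_sub, LinearMap.sub_apply, hs y x]; ring
  obtain ⟨ψ, hψ⟩ : ∃ ψ, b ψ ψ ≠ 0 := by
    by_contra h0
    push Not at h0
    apply hb
    refine LinearMap.ext fun x => LinearMap.ext fun y => ?_
    have h1 := hadd x y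
    rw [h0, h0, h0, zero_add, add_zero] at h1
    exact (mul_eq_zero.1 h1.symm).resolve_left h2
  obtain ⟨s, hs0⟩ : ∃ s, s = b ψ ψ := ⟨_, rfl⟩
  have hsne : s ≠ 0 := by rw [hs0]; exact hψ
  obtain ⟨l, hl⟩ := hcon' ψ hψ
  have c1 : ∀ θ, b ψ θ = 0 → A θ ≠ l • θ → b θ θ = -s := by
    intro θ hθ hne
    by_contra hsum
    have hθ0 : θ ≠ 0 := by rintro rfl; exact hne (by simp)
    have k1 : b (ψ + θ) (ψ + θ) ≠ 0 := by
      rw [hadd, hθ, ← hs0]; intro h; exact hsum (by linear_combination h)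
    have k2 : b (ψ - θ) (ψ - θ) ≠ 0 := by
      rw [hsub, hθ, ← hs0]; intro h; exact hsum (by linear_combination h)
    obtain ⟨μ, hμ⟩ := hcon' _ k1
    obtain ⟨ν, hν⟩ := hcon' _ k2
    have e1 : (2 * l) • ψ = (μ + ν) • ψ + (μ - ν) • θ := by
      have : A (ψ + θ) + A (ψ - θ) = (2 * l) • ψ := by
        rw [map_add, map_sub, hl, mul_smul, two_smul]; abel
      rw [← this, hμ, hν, smul_add, smul_sub, add_smul, sub_smul]; abel
    have e2 : (2 : F) • A θ = (μ - ν) • ψ + (μ + ν) • θ := by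
      have : A (ψ + θ) - A (ψ - θ) = (2 : F) • A θ := by
        rw [map_add, map_sub, two_smul]; abel
      rw [← this, hμ, hν, smul_add, smul_sub, add_smul, sub_smul]; abel
    have e3 : 2 * l = μ + ν := by
      have h3 := congrArg (fun v => b ψ v) e1
      simp only [map_add, map_smul, smul_eq_mul, hθ, mul_zero, add_zero] at h3
      exact mul_right_cancel₀ hψ h3
    have e4 : (μ - ν) • θ = 0 := by
      rw [e3] at e1
      exact left_eq_add.1 e1
    have e5 : μ - ν = 0 := (smul_eq_zero.1 e4).resolve_right hθ0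
    apply hne
    rw [e5, zero_smul, zero_add, ← e3, mul_smul] at e2
    exact smul_right_injective V h2 e2
  have c2 : ∀ θ, b ψ θ = 0 → A θ = l • θ := by
    intro θ hθ
    by_contra hne
    have hθθ := c1 θ hθ hne
    have hθ0 : θ ≠ 0 := by rintro rfl; exact hne (by simp)
    rcases hex with h3 | ⟨t, ht0, ht⟩
    · -- a second vector orthogonal to `ψ`
      obtain ⟨θ', hθ', hθ'2⟩ : ∃ θ', b ψ θ' = 0 ∧ θ' ∉ Submodule.span F {θ} := by
        by_contra h4
        push Not at h4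
        have h5 : LinearMap.ker (b ψ) ≤ Submodule.span F {θ} := fun v hv => h4 v hv
        have h6 := Submodule.finrank_mono h5
        rw [finrank_span_singleton hθ0] at h6
        have h7 := LinearMap.finrank_range_add_finrank_ker (b ψ)
        have h8 : finrank F (LinearMap.range (b ψ)) ≤ 1 := by
          have := Submodule.finrank_le (LinearMap.range (b ψ))
          rwa [Module.finrank_self] at this
        omega
      obtain ⟨κ, hκ1, hκ2, hκ3⟩ : ∃ κ, b ψ κ = 0 ∧ A κ = l • κ ∧ κ ∉ Submodule.span F {θ} := by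
        by_contra h4
        push Not at h4
        have h5 : A θ' ≠ l • θ' := fun h => hθ'2 (h4 θ' hθ' h)
        have h6 : A (θ + θ') ≠ l • (θ + θ') := fun h => hθ'2 (by
          have h7 := h4 (θ + θ') (by rw [map_add, hθ, hθ', add_zero]) h
          have h8 := Submodule.sub_mem _ h7 (Submodule.mem_span_singleton_self θ)
          rwa [add_sub_cancel_left] at h8)
        have h7 : A (θ - θ') ≠ l • (θ - θ') := fun h => hθ'2 (by
          have h7 := h4 (θ - θ') (by rw [map_sub, hθ, hθ', sub_zero]) h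
          have h8 := Submodule.sub_mem _ (Submodule.mem_span_singleton_self θ) h7
          rwa [sub_sub_cancel] at h8)
        have k1 := c1 θ' hθ' h5
        have k2 := c1 _ (by rw [map_add, hθ, hθ', add_zero]) h6
        have k3 := c1 _ (by rw [map_sub, hθ, hθ', sub_zero]) h7
        rw [hadd, hθθ, k1] at k2
        rw [hsub, hθθ, k1] at k3
        apply hsne
        have h8 : (2 : F) * s = 0 := by linear_combination -k2 - k3
        exact (mul_eq_zero.1 h8).resolve_left h2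
      have h6 : A (θ + κ) ≠ l • (θ + κ) := fun h => hne (by
        rw [map_add, hκ2, smul_add] at h
        exact add_right_cancel h)
      have h7 : A (θ - κ) ≠ l • (θ - κ) := fun h => hne (by
        rw [map_sub, hκ2, smul_sub] at h
        exact sub_left_injective h)
      have k2 := c1 _ (by rw [map_add, hθ, hκ1, add_zero]) h6
      obtain ⟨μ, hμ⟩ := hcon' θ (by rw [hθθ]; exact neg_ne_zero.2 hsne)
      obtain ⟨ν, hν⟩ := hcon' (θ + κ) (by rw [k2]; exact neg_ne_zero.2 hsne)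
      rw [map_add, hμ, hκ2, smul_add] at hν
      have e1 : (μ - ν) • θ = (ν - l) • κ := by
        rw [sub_smul, sub_smul, sub_eq_sub_iff_add_eq_add]
        rw [hν]; abel
      have e2 : ν = l := by
        by_contra h8
        apply hκ3
        rw [Submodule.mem_span_singleton]
        refine ⟨(ν - l)⁻¹ * (μ - ν), ?_⟩
        rw [mul_smul, e1, smul_smul, inv_mul_cancel₀ (sub_ne_zero.2 h8), one_smul]
      rw [e2, sub_self, zero_smul] at e1
      have e3 := (smul_eq_zero.1 e1).resolve_right hθ0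
      apply hne
      rw [hμ, sub_eq_zero.1 e3]
    · have h4 : A (t • θ) ≠ l • (t • θ) := fun h => hne (by
        rw [map_smul, smul_comm] at h
        exact smul_right_injective V ht0 h)
      have h5 := c1 (t • θ) (by rw [map_smul, hθ, smul_zero]) h4
      rw [map_smul, map_smul, LinearMap.smul_apply, smul_eq_mul, smul_eq_mul, hθθ] at h5
      apply ht
      have h6 : (t ^ 2 - 1) * s = 0 := by linear_combination -h5
      exact sub_eq_zero.1 ((mul_eq_zero.1 h6).resolve_right hsne)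
  obtain ⟨v, hv⟩ := hA l
  apply hv
  have h3 : v = (s⁻¹ * b ψ v) • ψ + (v - (s⁻¹ * b ψ v) • ψ) := by abel
  have h4 : b ψ (v - (s⁻¹ * b ψ v) • ψ) = 0 := by
    rw [map_sub, map_smul, ← hs0, smul_eq_mul]
    field_simp
    ring
  conv_lhs => rw [h3]
  conv_rhs => rw [h3]
  rw [map_add, map_smul, hl, c2 _ h4, smul_add, smul_comm]

theorem card_odd [Fintype F] (h2 : (2 : F) ≠ 0) : Fintype.card F % 2 = 1 := by
  rw [← Nat.odd_iff]
  by_contra hev
  rw [Nat.not_odd_iff_even] at hev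
  have h5 := (FiniteField.even_card_iff_char_two (F := F)).2 (Nat.even_iff.1 hev)
  apply h2
  have h6 := ringChar.Nat.cast_ringChar (R := F)
  rw [h5] at h6
  exact_mod_cast h6

/-- conjugacy in `SL_2(F)` -/
theorem conj_two [Finite F] (h2 : (2 : F) ≠ 0) {M M₀ : Matrix (Fin 2) (Fin 2) F} (hM : Cyc M) (hM₀ : Cyc M₀)
    (hd : M₀.det = 1) (h : M.charpoly = M₀.charpoly) (hirr : Irreducible M₀.charpoly) :
    ∃ R : Matrix (Fin 2) (Fin 2) F, R.det = 1 ∧ R * M₀ = M * R := by
  have := Fintype.ofFinite F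
  obtain ⟨P, hP, hPx⟩ := conj_of_cyc hM₀ hM h.symm
  have hPP : P⁻¹ * P = 1 := Matrix.nonsing_inv_mul _ hP
  have hcom : M * P = P * M₀ := by rw [hPx, mul_assoc, hPP, mul_one]
  obtain ⟨t, ht⟩ : ∃ t, t = M₀.trace := ⟨_, rfl⟩
  have hc : M₀.charpoly = X ^ 2 - C t * X + 1 := by
    rw [Matrix.charpoly_fin_two, hd, ← ht, C_1]
  have hdeg : 2 ≤ M₀.charpoly.natDegree := by rw [M₀.charpoly_natDegree_eq_dim]; simp
  have hroot := eval_ne_zero hirr hdeg (t / 2)
  have hne : (1 : F) - t ^ 2 / 4 ≠ 0 := by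
    intro h0
    apply hroot
    rw [hc]
    simp only [eval_add, eval_sub, eval_pow, eval_mul, eval_X, eval_C, eval_one]
    have h4 : (4 : F) ≠ 0 := by
      have : (4 : F) = 2 * 2 := by norm_num
      rw [this]; exact mul_ne_zero h2 h2
    rw [← h0]
    field_simp
    ring
  obtain ⟨a, b, hab⟩ := FiniteField.exists_root_sum_quadratic (R := F)
    (f := C 1 * X ^ 2 + C 0 * X + C (-(P.det)⁻¹)) (g := C (1 - t ^ 2 / 4) * X ^ 2 + C 0 * X + C 0)
    (degree_quadratic one_ne_zero) (degree_quadratic hne) (card_odd h2)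
  simp only [eval_add, eval_mul, eval_C, eval_pow, eval_X, zero_mul, add_zero, one_mul] at hab
  obtain ⟨K, hK⟩ : ∃ K : Matrix (Fin 2) (Fin 2) F, K = (a - b * t / 2) • (1 : Matrix (Fin 2) (Fin 2) F) + b • M₀ :=
    ⟨_, rfl⟩
  have hKd : K.det = (P.det)⁻¹ := by
    have e1 : M₀ 0 0 * M₀ 1 1 - M₀ 0 1 * M₀ 1 0 = 1 := by rw [← hd, Matrix.det_fin_two]
    have e2 : t = M₀ 0 0 + M₀ 1 1 := by rw [ht, Matrix.trace_fin_two]
    have h4 : (4 : F) ≠ 0 := by
      have : (4 : F) = 2 * 2 := by norm_num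
      rw [this]; exact mul_ne_zero h2 h2
    rw [Matrix.det_fin_two, hK]
    simp only [Matrix.add_apply, Matrix.smul_apply, Matrix.one_apply_eq, Matrix.one_apply, smul_eq_mul]
    simp only [Fin.reduceEq, if_false, mul_one, mul_zero, zero_add]
    have e3 : a ^ 2 + (1 - t ^ 2 / 4) * b ^ 2 = (P.det)⁻¹ := by linear_combination hab
    rw [← e3]
    have e4 : (a - b * t / 2) ^ 2 + (a - b * t / 2) * b * t + b ^ 2 = a ^ 2 + (1 - t ^ 2 / 4) * b ^ 2 := by
      field_simp
      ring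
    rw [← e4]
    linear_combination b ^ 2 * e1 - (a - b * t / 2) * b * e2
  refine ⟨P * K, ?_, ?_⟩
  · rw [det_mul, hKd, mul_inv_cancel₀ hP.ne_zero]
  · have hKM : K * M₀ = M₀ * K := by
      rw [hK, Matrix.add_mul, Matrix.mul_add, Matrix.smul_mul, Matrix.smul_mul, Matrix.mul_smul, Matrix.mul_smul,
        Matrix.one_mul, Matrix.mul_one]
    rw [mul_assoc, hKM, ← mul_assoc, ← mul_assoc, hcom]

/-- irreducible `X ^ 2 - t X + 1` -/
theorem exists_quad (F : Type*) [Field F] [Finite F] :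
    ∃ t : F, Irreducible (X ^ 2 - C t * X + 1 : F[X]) := by
  have hq : 2 ≤ Nat.card F := Finite.one_lt_card
  have hs : Nat.card F + 1 ∣ Nat.card F ^ 2 - 1 := by
    refine ⟨Nat.card F - 1, ?_⟩
    obtain ⟨r, hr⟩ : ∃ r, Nat.card F = r + 1 := ⟨Nat.card F - 1, by omega⟩
    rw [hr, Nat.add_sub_cancel]
    have : (r + 1) ^ 2 = (r + 1 + 1) * r + 1 := by ring
    omega
  obtain ⟨f, hf⟩ := exists_pol F (d := 2) (by omega) hs (fun k hk hkd => by
    have hk1 : k = 1 := by omega
    subst hk1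
    rw [pow_one]
    exact not_dvd_of_lt (by omega) (by omega))
  have h0 : f.coeff 0 = 1 := by
    have h1 := (hf.coef 1).2 (by
      rw [mul_one]
      have : Nat.card F ^ 2 - 1 = (Nat.card F + 1) * (Nat.card F - 1) := by
        obtain ⟨r, hr⟩ : ∃ r, Nat.card F = r + 1 := ⟨Nat.card F - 1, by omega⟩
        rw [hr, Nat.add_sub_cancel]
        have : (r + 1) ^ 2 = (r + 1 + 1) * r + 1 := by ring
        omega
      rw [this, Nat.mul_div_cancel _ (by omega)])
    rw [pow_one] at h1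
    simpa using h1
  refine ⟨-f.coeff 1, ?_⟩
  have h2 : f = X ^ 2 - C (-f.coeff 1) * X + 1 := by
    have h3 := hf.monic.as_sum
    rw [hf.deg, Finset.sum_range_succ, Finset.sum_range_one, h0] at h3
    rw [C_neg, neg_mul, sub_neg_eq_add]
    nth_rewrite 1 [h3]
    rw [C_1, pow_zero, mul_one, pow_one]
    ring
  rw [← h2]
  exact hf.irr

end Cfsg.Agent.H140.TC.Sp
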