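import Cfsg.Agent.H140.TC.SpBase
import Cfsg.Agent.H140.TC.SpLin
import Cfsg.Agent.H649.PwSp.Corner
import Cfsg.Agent.S2445

/-!
# S4173, symplectic groups over fields of odd characteristic: two fixed classes
-/

set_option autoImplicit false

namespace Cfsg.Agent.H140.TC.Sp

open Module Matrix Polynomial Cfsg.Agent.H962.PP Cfsg.Agent.H126.PwO Cfsg.Agent.H140.OreO
  Cfsg.Agent.H144 Cfsg.Agent.H649.PwSp Cfsg.Agent.S2445

variable {F : Type*} [Field F] {n k : ℕ}

/-! ### the unipotent subgroups -/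

/-- the lower unipotent subgroup -/
def Lo (n : ℕ) (F : Type*) [Field F] : Subgroup (G n F) where
  carrier := {g | ∃ (T : Matrix (Fin n) (Fin n) F) (hT : Tᵀ = T), g = lo T hT}
  one_mem' := ⟨0, transpose_zero, lo_zero.symm⟩
  mul_mem' := by
    rintro _ _ ⟨T, hT, rfl⟩ ⟨T', hT', rfl⟩
    exact ⟨_, _, lo_mul hT hT'⟩
  inv_mem' := by
    rintro _ ⟨T, hT, rfl⟩
    exact ⟨_, _, lo_inv hT⟩

/-- the upper unipotent subgroup -/
def Up (n : ℕ) (F : Type*) [Field F] : Subgroup (G n F) where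
  carrier := {g | ∃ (T : Matrix (Fin n) (Fin n) F) (hT : Tᵀ = T), g = up T hT}
  one_mem' := ⟨0, transpose_zero, up_zero.symm⟩
  mul_mem' := by
    rintro _ _ ⟨T, hT, rfl⟩ ⟨T', hT', rfl⟩
    exact ⟨_, _, up_mul hT hT'⟩
  inv_mem' := by
    rintro _ ⟨T, hT, rfl⟩
    exact ⟨_, _, up_inv hT⟩

theorem lo_mem {T : Matrix (Fin n) (Fin n) F} (hT : Tᵀ = T) : lo T hT ∈ Lo n F := ⟨T, hT, rfl⟩

theorem up_mem {T : Matrix (Fin n) (Fin n) F} (hT : Tᵀ = T) : up T hT ∈ Up n F := ⟨T, hT, rfl⟩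

theorem Lo_conj (R : GL (Fin n) F) {l : G n F} (hl : l ∈ Lo n F) : lv R * l * (lv R)⁻¹ ∈ Lo n F := by
  obtain ⟨T, hT, rfl⟩ := hl
  have h := lv_lo R⁻¹ hT
  rw [map_inv, inv_inv] at h
  rw [h]
  exact ⟨_, _, rfl⟩

theorem Up_conj (R : GL (Fin n) F) {l : G n F} (hl : l ∈ Up n F) : lv R * l * (lv R)⁻¹ ∈ Up n F := by
  obtain ⟨T, hT, rfl⟩ := hl
  rw [lv_up R hT]
  exact ⟨_, _, rfl⟩

theorem lo_inj {T T' : Matrix (Fin n) (Fin n) F} {hT : Tᵀ = T} {hT' : T'ᵀ = T'} (h : lo T hT = lo T' hT') :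
    T = T' := by
  have h1 := congrArg Subtype.val h
  change fromBlocks 1 0 T 1 = fromBlocks 1 0 T' 1 at h1
  exact (fromBlocks_inj.1 h1).2.2.1

theorem up_inj {T T' : Matrix (Fin n) (Fin n) F} {hT : Tᵀ = T} {hT' : T'ᵀ = T'} (h : up T hT = up T' hT') :
    T = T' := by
  have h1 := congrArg Subtype.val h
  change fromBlocks 1 T 0 1 = fromBlocks 1 T' 0 1 at h1
  exact (fromBlocks_inj.1 h1).2.1

/-- no invariant forms -/
theorem eq_zero_of_comm {X : GL (Fin n) F} (hX : IsCoprime (X : Matrix (Fin n) (Fin n) F).charpoly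
    (X : Matrix (Fin n) (Fin n) F).charpoly.reverse) {T : Matrix (Fin n) (Fin n) F}
    (h : T * (X : Matrix (Fin n) (Fin n) F) = (ti X : Matrix (Fin n) (Fin n) F) * T) : T = 0 := by
  have h1 : ∀ v, toLin' T v = 0 := by
    intro v
    apply inj_of_coprime (aeval_ti_reverse X) hX
    have h2 := intertwine (toLin' T) (toLin' (X : Matrix (Fin n) (Fin n) F))
      (toLin' (ti X : Matrix (Fin n) (Fin n) F)) (fun a => by
        rw [← toLin'_mul_apply, ← toLin'_mul_apply, h]) (X : Matrix (Fin n) (Fin n) F).charpoly v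
    rw [← h2, aeval_toLin', aeval_self_charpoly, map_zero, LinearMap.zero_apply, map_zero]
  apply Matrix.toLin'.injective
  rw [map_zero]
  exact LinearMap.ext h1

section Fin

variable [Finite F]

/-- `L X L` is the class of `X` -/
theorem conj_lo_lv {X : GL (Fin n) F} (hX : IsCoprime (X : Matrix (Fin n) (Fin n) F).charpoly
    (X : Matrix (Fin n) (Fin n) F).charpoly.reverse) {l₁ l₂ : G n F} (h₁ : l₁ ∈ Lo n F) (h₂ : l₂ ∈ Lo n F) :
    ∃ r : G n F, l₁ * lv X * l₂ = r * lv X * r⁻¹ := by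
  have : Finite (G n F) := inferInstance
  obtain ⟨r, -, e⟩ := conj_of_fpf (Lo n F) (lv X) (fun r hr => Lo_conj X hr) (fun r hr hc => by
    obtain ⟨T, hT, rfl⟩ := hr
    have h1 := lv_lo X hT
    have h2 : (lv X)⁻¹ * lo T hT * lv X = lo T hT := by
      rw [mul_assoc, ← hc]; group
    rw [h2] at h1
    have h3 := lo_inj h1
    have h4 : T = 0 := by
      apply eq_zero_of_comm hX
      rw [ti_coe]
      conv_rhs => rw [h3]
      have h5 : ((X⁻¹ : GL (Fin n) F) : Matrix (Fin n) (Fin n) F)ᵀ * (X : Matrix (Fin n) (Fin n) F)ᵀ = 1 := by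
        rw [← transpose_mul, ← Units.val_mul, mul_inv_cancel]; simp
      rw [Matrix.mul_assoc (X : Matrix (Fin n) (Fin n) F)ᵀ, ← Matrix.mul_assoc, h5, Matrix.one_mul]
    subst h4
    exact lo_zero) (l₁ * (lv X * l₂ * (lv X)⁻¹)) (mul_mem h₁ (Lo_conj X h₂))
  refine ⟨r, ?_⟩
  rw [← e]
  group

/-- `U X U` is the class of `X` -/
theorem conj_up_lv {X : GL (Fin n) F} (hX : IsCoprime (X : Matrix (Fin n) (Fin n) F).charpoly
    (X : Matrix (Fin n) (Fin n) F).charpoly.reverse) {l₁ l₂ : G n F} (h₁ : l₁ ∈ Up n F) (h₂ : l₂ ∈ Up n F) :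
    ∃ r : G n F, l₁ * lv X * l₂ = r * lv X * r⁻¹ := by
  have : Finite (G n F) := inferInstance
  obtain ⟨r, -, e⟩ := conj_of_fpf (Up n F) (lv X) (fun r hr => Up_conj X hr) (fun r hr hc => by
    obtain ⟨T, hT, rfl⟩ := hr
    have h1 := lv_up X hT
    have h2 : lv X * up T hT * (lv X)⁻¹ = up T hT := by
      rw [hc]; group
    rw [h2] at h1
    have h3 := up_inj h1
    have h4 : T = 0 := by
      -- `T = X T Xᵀ`
      have h5 : ((X⁻¹ : GL (Fin n) F) : Matrix (Fin n) (Fin n) F) * (X : Matrix (Fin n) (Fin n) F) = 1 := X.inv_mul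
      have h6 : T * (ti X : Matrix (Fin n) (Fin n) F) = (X : Matrix (Fin n) (Fin n) F) * T := by
        conv_lhs => rw [h3]
        rw [ti_coe, Matrix.mul_assoc, ← transpose_mul, h5, transpose_one, Matrix.mul_one]
      apply Matrix.toLin'.injective
      rw [map_zero]
      apply LinearMap.ext
      intro v
      apply inj_of_coprime (aeval_self_charpoly (X : Matrix (Fin n) (Fin n) F)) hX.symm
      have h2 := intertwine (toLin' T) (toLin' (ti X : Matrix (Fin n) (Fin n) F))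
        (toLin' (X : Matrix (Fin n) (Fin n) F)) (fun a => by
          rw [← toLin'_mul_apply, ← toLin'_mul_apply, h6]) (X : Matrix (Fin n) (Fin n) F).charpoly.reverse v
      rw [← h2, aeval_toLin', aeval_ti_reverse, map_zero, LinearMap.zero_apply, map_zero]
    subst h4
    exact up_zero) (l₁ * (lv X * l₂ * (lv X)⁻¹)) (mul_mem h₁ (Up_conj X h₂))
  refine ⟨r, ?_⟩
  rw [← e]
  group

end Fin

/-! ### `SL_2 × GL_(n-1)` -/

section blk

variable {m : ℕ}

theorem blk_add (a b : F) (B D : Matrix (Fin m) (Fin m) F) : blk a B + blk b D = blk (a + b) (B + D) := by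
  ext i j
  refine Fin.cases ?_ (fun i => ?_) i <;> refine Fin.cases ?_ (fun j => ?_) j <;> simp [Matrix.add_apply]

theorem blk_sub (a b : F) (B D : Matrix (Fin m) (Fin m) F) : blk a B - blk b D = blk (a - b) (B - D) := by
  ext i j
  refine Fin.cases ?_ (fun i => ?_) i <;> refine Fin.cases ?_ (fun j => ?_) j <;> simp [Matrix.sub_apply]

theorem blk_transpose (a : F) (B : Matrix (Fin m) (Fin m) F) : (blk a B)ᵀ = blk a Bᵀ := by
  ext i j
  refine Fin.cases ?_ (fun i => ?_) i <;> refine Fin.cases ?_ (fun j => ?_) j <;> simp [Matrix.transpose_apply]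

theorem blk_zero : blk (0 : F) (0 : Matrix (Fin m) (Fin m) F) = 0 := by
  ext i j
  refine Fin.cases ?_ (fun i => ?_) i <;> refine Fin.cases ?_ (fun j => ?_) j <;> simp

/-- `SL_2 × GL_(n-1)` -/
def em : SpecialLinearGroup (Fin 2) F × GL (Fin m) F →* G (m + 1) F where
  toFun x := ⟨fromBlocks (blk (x.1 0 0) x.2) (blk (x.1 0 1) 0) (blk (x.1 1 0) 0) (blk (x.1 1 1) (ti x.2)), by
    have h1 : x.1 0 0 * x.1 1 1 - x.1 0 1 * x.1 1 0 = 1 := by
      have := x.1.det_coe
      rwa [Matrix.det_fin_two] at this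
    have h2 : (x.2 : Matrix (Fin m) (Fin m) F) * ((x.2⁻¹ : GL (Fin m) F) : Matrix (Fin m) (Fin m) F) = 1 := x.2.mul_inv
    rw [mem_iff]
    simp only [blk_transpose, blk_mul, blk_sub, ti_coe, transpose_transpose, transpose_zero, Matrix.mul_zero,
      Matrix.zero_mul, h2, ← transpose_mul, transpose_one, sub_zero]
    refine ⟨by rw [mul_comm], by rw [mul_comm], ?_, ?_⟩
    · rw [h1, blk_one]
    · rw [mul_comm (x.1 1 1), mul_comm (x.1 1 0), h1, blk_one]⟩
  map_one' := Subtype.ext (by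
    show fromBlocks _ _ _ _ = (1 : Matrix _ _ F)
    simp only [Prod.fst_one, Prod.snd_one, ti_one, Units.val_one]
    simp [blk_one, blk_zero])
  map_mul' x y := Subtype.ext (by
    show fromBlocks _ _ _ _ = fromBlocks _ _ _ _ * fromBlocks _ _ _ _
    have hm : ∀ i j, (x.1 * y.1) i j = x.1 i 0 * y.1 0 j + x.1 i 1 * y.1 1 j := fun i j => by
      show (x.1.1 * y.1.1) i j = _
      rw [Matrix.mul_apply, Fin.sum_univ_two]
    rw [fromBlocks_multiply]
    simp only [blk_mul, blk_add, Prod.fst_mul, Prod.snd_mul, ti_mul, Units.val_mul, Matrix.mul_zero, Matrix.zero_mul,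
      add_zero, zero_add, hm])

theorem em_coe (M : SpecialLinearGroup (Fin 2) F) (B : GL (Fin m) F) :
    (em (M, B) : Matrix (Fin (m + 1) ⊕ Fin (m + 1)) (Fin (m + 1) ⊕ Fin (m + 1)) F) =
      fromBlocks (blk (M 0 0) B) (blk (M 0 1) 0) (blk (M 1 0) 0) (blk (M 1 1) (ti B)) := rfl

/-- the elements of the plane and `SL_2` -/
theorem em_eq {ν c σ : F} (hc : c ≠ 0) {B : GL (Fin m) F} {Z : GL (Fin (m + 1)) F}
    (hZ : (Z : Matrix (Fin (m + 1)) (Fin (m + 1)) F) = blk c B) {M : SpecialLinearGroup (Fin 2) F}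
    (h00 : M 0 0 = c) (h01 : M 0 1 = c * σ) (h10 : M 1 0 = ν * c) (h11 : M 1 1 = ν * c * σ + c⁻¹) :
    lo (blk ν 0) (by rw [blk_transpose, transpose_zero]) * lv Z * up (blk σ 0) (by rw [blk_transpose, transpose_zero]) =
      em (M, B) := by
  have hZi : ((Z⁻¹ : GL (Fin (m + 1)) F) : Matrix (Fin (m + 1)) (Fin (m + 1)) F) =
      blk c⁻¹ ((B⁻¹ : GL (Fin m) F) : Matrix (Fin m) (Fin m) F) := by
    have h1 : (Z : Matrix (Fin (m + 1)) (Fin (m + 1)) F) *
        blk c⁻¹ ((B⁻¹ : GL (Fin m) F) : Matrix (Fin m) (Fin m) F) = 1 := by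
      rw [hZ, blk_mul, mul_inv_cancel₀ hc, ← Units.val_mul, mul_inv_cancel, Units.val_one, blk_one]
    have h2 : ((Z⁻¹ : GL (Fin (m + 1)) F) : Matrix (Fin (m + 1)) (Fin (m + 1)) F) *
        (Z : Matrix (Fin (m + 1)) (Fin (m + 1)) F) = 1 := Z.inv_mul
    calc ((Z⁻¹ : GL (Fin (m + 1)) F) : Matrix (Fin (m + 1)) (Fin (m + 1)) F) =
        ((Z⁻¹ : GL (Fin (m + 1)) F) : Matrix (Fin (m + 1)) (Fin (m + 1)) F) *
          ((Z : Matrix (Fin (m + 1)) (Fin (m + 1)) F) *
            blk c⁻¹ ((B⁻¹ : GL (Fin m) F) : Matrix (Fin m) (Fin m) F)) := by rw [h1, Matrix.mul_one]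
      _ = _ := by rw [← Matrix.mul_assoc, h2, Matrix.one_mul]
  apply Subtype.ext
  rw [em_coe, h00, h01, h10, h11]
  simp only [Submonoid.coe_mul, lo_coe, lv_coe, up_coe, fromBlocks_multiply, hZ, hZi, Matrix.one_mul, Matrix.mul_one,
    Matrix.mul_zero, Matrix.zero_mul, add_zero, zero_add, blk_mul, blk_add, blk_transpose, ti_coe]

end blk

/-! ### the action on vectors -/

/-- the action as a homomorphism -/
noncomputable def actH (n : ℕ) (F : Type*) [Field F] : G n F →* ((Fin n ⊕ Fin n → F) ≃ₗ[F] (Fin n ⊕ Fin n → F)) where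
  toFun := act
  map_one' := by
    ext v i
    rw [act_apply]
    simp
  map_mul' x y := by
    apply LinearEquiv.ext
    intro v
    rw [LinearEquiv.mul_apply, act_apply, act_apply, act_apply, Matrix.mulVec_mulVec]
    rfl

theorem actH_apply (g : G n F) (v : Fin n ⊕ Fin n → F) : actH n F g v = (g : Matrix _ _ F) *ᵥ v := rfl

theorem actH_inj : Function.Injective (actH n F) := by
  intro a b h
  apply Subtype.ext
  apply Matrix.toLin'.injective
  apply LinearMap.ext
  intro v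
  exact LinearEquiv.congr_fun h v

theorem actH_iso (g : G n F) : Iso (form F n) (actH n F g) := act_iso g

theorem form_elim (a b a' b' : Fin n → F) : form F n (Sum.elim a b) (Sum.elim a' b') = b ⬝ᵥ a' - a ⬝ᵥ b' := by
  rw [form_apply, Matrix.J, fromBlocks_mulVec]
  simp [Matrix.neg_mulVec]
  ring

section emb

variable {m : ℕ}

/-- the isotropic subspace -/
def iE (m : ℕ) (F : Type*) [Field F] : (Fin m → F) →ₗ[F] (Fin (m + 1) ⊕ Fin (m + 1) → F) where
  toFun w := Sum.elim (consL w) 0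
  map_add' x y := by ext i; rcases i with i | i <;> simp
  map_smul' c x := by ext i; rcases i with i | i <;> simp

/-- its dual -/
def iQ (m : ℕ) (F : Type*) [Field F] : (Fin m → F) →ₗ[F] (Fin (m + 1) ⊕ Fin (m + 1) → F) where
  toFun w := Sum.elim 0 (consL w)
  map_add' x y := by ext i; rcases i with i | i <;> simp
  map_smul' c x := by ext i; rcases i with i | i <;> simp

/-- the plane -/
def iH (m : ℕ) (F : Type*) [Field F] : (Fin 2 → F) →ₗ[F] (Fin (m + 1) ⊕ Fin (m + 1) → F) where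
  toFun z := Sum.elim (Pi.single 0 (z 0)) (Pi.single 0 (z 1))
  map_add' x y := by ext i; rcases i with i | i <;> simp [Pi.single_add]
  map_smul' c x := by ext i; rcases i with i | i <;> simp [Pi.single_apply]

theorem blk_consL (a : F) (B : Matrix (Fin m) (Fin m) F) (w : Fin m → F) : blk a B *ᵥ consL w = consL (B *ᵥ w) := by
  ext i
  refine Fin.cases ?_ (fun i => ?_) i
  · rw [mulVec_consL_zero, consL_zero]
    exact Finset.sum_eq_zero fun j _ => by rw [blk_zero_succ, zero_mul]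
  · rw [mulVec_consL_succ, consL_succ]
    rfl

theorem blk_single (a : F) (B : Matrix (Fin m) (Fin m) F) (z : F) :
    blk a B *ᵥ (Pi.single 0 z : Fin (m + 1) → F) = Pi.single 0 (a * z) := by
  ext i
  rw [Matrix.mulVec_single]
  refine Fin.cases ?_ (fun i => ?_) i
  · simp
  · simp [Fin.succ_ne_zero]

theorem act_iE (M : SpecialLinearGroup (Fin 2) F) (B : GL (Fin m) F) (w : Fin m → F) :
    actH (m + 1) F (em (M, B)) (iE m F w) = iE m F ((B : Matrix (Fin m) (Fin m) F) *ᵥ w) := by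
  rw [actH_apply, em_coe]
  show _ *ᵥ (Sum.elim (consL w) 0 : Fin (m + 1) ⊕ Fin (m + 1) → F) = Sum.elim (consL _) 0
  rw [fromBlocks_mulVec, Sum.elim_comp_inl, Sum.elim_comp_inr]
  simp [blk_consL]

theorem act_iQ (M : SpecialLinearGroup (Fin 2) F) (B : GL (Fin m) F) (w : Fin m → F) :
    actH (m + 1) F (em (M, B)) (iQ m F w) = iQ m F ((ti B : Matrix (Fin m) (Fin m) F) *ᵥ w) := by
  rw [actH_apply, em_coe]
  show _ *ᵥ (Sum.elim (0 : Fin (m + 1) → F) (consL w)) = Sum.elim (0 : Fin (m + 1) → F) (consL _)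
  rw [fromBlocks_mulVec, Sum.elim_comp_inl, Sum.elim_comp_inr]
  simp [blk_consL]

theorem act_iH (M : SpecialLinearGroup (Fin 2) F) (B : GL (Fin m) F) (z : Fin 2 → F) :
    actH (m + 1) F (em (M, B)) (iH m F z) = iH m F ((M : Matrix (Fin 2) (Fin 2) F) *ᵥ z) := by
  rw [actH_apply, em_coe]
  show _ *ᵥ (Sum.elim (Pi.single 0 (z 0)) (Pi.single 0 (z 1)) : Fin (m + 1) ⊕ Fin (m + 1) → F) =
    Sum.elim (Pi.single 0 _) (Pi.single 0 _)
  rw [fromBlocks_mulVec]
  simp only [Function.comp_def, Sum.elim_inl, Sum.elim_inr, blk_single, ← Pi.single_add, Matrix.mulVec, dotProduct,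
    Fin.sum_univ_two]

theorem consL_dot (w w' : Fin m → F) : (consL w : Fin (m + 1) → F) ⬝ᵥ consL w' = w ⬝ᵥ w' := by
  rw [dotProduct, Fin.sum_univ_succ]
  simp [dotProduct]

theorem consL_dot_single (w : Fin m → F) (z : F) : (consL w : Fin (m + 1) → F) ⬝ᵥ Pi.single 0 z = 0 := by
  rw [dotProduct_single]
  simp

/-- conjugacy in the coset of the unipotent radical -/
theorem conj_em_up [Finite F] {M : SpecialLinearGroup (Fin 2) F} {B : GL (Fin m) F}
    (h1 : IsCoprime (B : Matrix (Fin m) (Fin m) F).charpoly (B : Matrix (Fin m) (Fin m) F).charpoly.reverse)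
    (h2 : IsCoprime (B : Matrix (Fin m) (Fin m) F).charpoly (M : Matrix (Fin 2) (Fin 2) F).charpoly)
    {S : Matrix (Fin (m + 1)) (Fin (m + 1)) F} (hS : Sᵀ = S) (hS0 : S 0 0 = 0) :
    ∃ r : G (m + 1) F, em (M, B) * up S hS = r * em (M, B) * r⁻¹ := by
  have hfin : Finite (G (m + 1) F) := inferInstance
  obtain ⟨P, hP⟩ : ∃ P, P = LinearMap.range (iE m F) := ⟨_, rfl⟩
  obtain ⟨Q, hQ⟩ : ∃ Q, Q = LinearMap.range (iQ m F) := ⟨_, rfl⟩
  obtain ⟨H, hH⟩ : ∃ H, H = LinearMap.range (iH m F) := ⟨_, rfl⟩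
  have oPP : Orth (form F (m + 1)) P P := by
    rw [hP]
    rintro _ ⟨a, rfl⟩ _ ⟨b, rfl⟩
    show form F (m + 1) (Sum.elim _ _) (Sum.elim _ _) = 0
    rw [form_elim]; simp
  have oQQ : Orth (form F (m + 1)) Q Q := by
    rw [hQ]
    rintro _ ⟨a, rfl⟩ _ ⟨b, rfl⟩
    show form F (m + 1) (Sum.elim _ _) (Sum.elim _ _) = 0
    rw [form_elim]; simp
  have oPH : Orth (form F (m + 1)) P H := by
    rw [hP, hH]
    rintro _ ⟨a, rfl⟩ _ ⟨b, rfl⟩
    show form F (m + 1) (Sum.elim _ _) (Sum.elim _ _) = 0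
    rw [form_elim, consL_dot_single]; simp
  have oHQ : Orth (form F (m + 1)) H Q := by
    rw [hQ, hH]
    rintro _ ⟨a, rfl⟩ _ ⟨b, rfl⟩
    show form F (m + 1) (Sum.elim _ _) (Sum.elim _ _) = 0
    rw [form_elim, dotProduct_comm (Pi.single 0 (a 0)), consL_dot_single]; simp
  have htop : P ⊔ (H ⊔ Q) = ⊤ := by
    rw [eq_top_iff]
    intro v _
    have e : v = iE m F (fun i => v (Sum.inl i.succ)) +
        (iH m F ![v (Sum.inl 0), v (Sum.inr 0)] + iQ m F (fun i => v (Sum.inr i.succ))) := by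
      ext i
      rcases i with i | i
      · refine Fin.cases ?_ (fun j => ?_) i
        · simp [iE, iH, iQ]
        · simp [iE, iH, iQ, Fin.succ_ne_zero]
      · refine Fin.cases ?_ (fun j => ?_) i
        · simp [iE, iH, iQ]
        · simp [iE, iH, iQ, Fin.succ_ne_zero]
    rw [e]
    refine Submodule.add_mem_sup ?_ (Submodule.add_mem_sup ?_ ?_)
    · rw [hP]; exact LinearMap.mem_range_self _ _
    · rw [hH]; exact LinearMap.mem_range_self _ _
    · rw [hQ]; exact LinearMap.mem_range_self _ _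
  obtain ⟨Y, hY⟩ : ∃ Y, Y = actH (m + 1) F (em (M, B)) := ⟨_, rfl⟩
  have hYP : ∀ v ∈ P, Y v ∈ P := by
    rw [hP, hY]
    rintro _ ⟨a, rfl⟩
    rw [act_iE]
    exact LinearMap.mem_range_self _ _
  -- polynomials
  have aE : ∀ (p : F[X]) w, aeval (Y : Module.End F (Fin (m + 1) ⊕ Fin (m + 1) → F)) p (iE m F w) =
      iE m F (aeval (toLin' (B : Matrix (Fin m) (Fin m) F)) p w) := by
    intro p w
    exact (intertwine (iE m F) (toLin' (B : Matrix (Fin m) (Fin m) F)) (Y : Module.End F _) (fun a => by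
      rw [hY]; exact (act_iE M B a).symm) p w).symm
  have aQ : ∀ (p : F[X]) w, aeval (Y : Module.End F (Fin (m + 1) ⊕ Fin (m + 1) → F)) p (iQ m F w) =
      iQ m F (aeval (toLin' (ti B : Matrix (Fin m) (Fin m) F)) p w) := by
    intro p w
    exact (intertwine (iQ m F) (toLin' (ti B : Matrix (Fin m) (Fin m) F)) (Y : Module.End F _) (fun a => by
      rw [hY]; exact (act_iQ M B a).symm) p w).symm
  have aH : ∀ (p : F[X]) w, aeval (Y : Module.End F (Fin (m + 1) ⊕ Fin (m + 1) → F)) p (iH m F w) =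
      iH m F (aeval (toLin' (M : Matrix (Fin 2) (Fin 2) F)) p w) := by
    intro p w
    exact (intertwine (iH m F) (toLin' (M : Matrix (Fin 2) (Fin 2) F)) (Y : Module.End F _) (fun a => by
      rw [hY]; exact (act_iH M B a).symm) p w).symm
  have iEinj : ∀ w, iE m F w = 0 → w = 0 := by
    intro w hw
    ext i
    have := congrFun hw (Sum.inl i.succ)
    simpa [iE] using this
  obtain ⟨f, hf⟩ : ∃ f, f = (B : Matrix (Fin m) (Fin m) F).charpoly.reverse * (M : Matrix (Fin 2) (Fin 2) F).charpoly :=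
    ⟨_, rfl⟩
  have hf0 : ∀ v ∈ H ⊔ Q, aeval (Y : Module.End F (Fin (m + 1) ⊕ Fin (m + 1) → F)) f v = 0 := by
    intro v hv
    obtain ⟨a, ha, b, hb, rfl⟩ := Submodule.mem_sup.1 hv
    rw [hH] at ha
    rw [hQ] at hb
    obtain ⟨a, rfl⟩ := ha
    obtain ⟨b, rfl⟩ := hb
    have e1 : aeval (toLin' (M : Matrix (Fin 2) (Fin 2) F)) f a = 0 := by
      rw [hf, map_mul, aeval_toLin' (M : Matrix (Fin 2) (Fin 2) F) (M : Matrix (Fin 2) (Fin 2) F).charpoly,
        aeval_self_charpoly, map_zero, mul_zero, LinearMap.zero_apply]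
    have e2 : aeval (toLin' (ti B : Matrix (Fin m) (Fin m) F)) f b = 0 := by
      rw [hf, mul_comm, map_mul, aeval_toLin' _ (B : Matrix (Fin m) (Fin m) F).charpoly.reverse,
        aeval_ti_reverse, map_zero, mul_zero, LinearMap.zero_apply]
    rw [map_add, aH, aQ, e1, e2, map_zero, map_zero, add_zero]
  have hfi : ∀ v ∈ P, aeval (Y : Module.End F (Fin (m + 1) ⊕ Fin (m + 1) → F)) f v = 0 → v = 0 := by
    rw [hP]
    rintro _ ⟨w, rfl⟩ h0
    rw [aE] at h0
    have h3 := iEinj _ h0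
    rw [inj_of_coprime (aeval_self_charpoly (B : Matrix (Fin m) (Fin m) F)) (f := f) (by
      rw [hf]; exact (IsCoprime.mul_right h1 h2).symm) w h3, map_zero]
  have hu : up S hS ∈ (Rad (form F (m + 1)) P).comap (actH (m + 1) F) := by
    rw [Subgroup.mem_comap, mem_Rad]
    refine ⟨actH_iso _, ?_, ?_⟩
    · rw [hP]
      rintro _ ⟨w, rfl⟩
      rw [actH_apply, up_coe]
      show _ *ᵥ (Sum.elim (consL w) 0 : Fin (m + 1) ⊕ Fin (m + 1) → F) = Sum.elim (consL _) 0
      rw [fromBlocks_mulVec, Sum.elim_comp_inl, Sum.elim_comp_inr]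
      simp
    · intro v hv
      obtain ⟨a, b, rfl⟩ : ∃ a b : Fin (m + 1) → F, v = Sum.elim a b :=
        ⟨v ∘ Sum.inl, v ∘ Sum.inr, by simp⟩
      have hb : ∀ i : Fin m, b i.succ = 0 := by
        intro i
        have h3 := hv (iE m F (Pi.single i 1)) (by rw [hP]; exact LinearMap.mem_range_self _ _)
        change form F (m + 1) (Sum.elim (consL (Pi.single i 1)) 0) (Sum.elim a b) = 0 at h3
        rw [form_elim, consL_single] at h3
        simpa using h3
      have hb' : b = Pi.single 0 (b 0) := by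
        ext i
        refine Fin.cases (by simp) (fun j => ?_) i
        rw [hb j]; simp [Fin.succ_ne_zero]
      have e : actH (m + 1) F (up S hS) (Sum.elim a b) - Sum.elim a b = iE m F (fun i => S i.succ 0 * b 0) := by
        rw [actH_apply, up_coe, fromBlocks_mulVec]
        ext i
        rcases i with i | i
        · simp only [Function.comp_def, Sum.elim_inl, Sum.elim_inr, Matrix.one_mulVec, Pi.sub_apply, Pi.add_apply,
            add_sub_cancel_left, iE, LinearMap.coe_mk, AddHom.coe_mk]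
          rw [hb', Matrix.mulVec_single]
          refine Fin.cases ?_ (fun j => ?_) i
          · simp [hS0]
          · simp
        · simp [Function.comp_def, iE]
      rw [e, hP]
      exact LinearMap.mem_range_self _ _
  have hconj : ∀ r ∈ (Rad (form F (m + 1)) P).comap (actH (m + 1) F),
      em (M, B) * r * (em (M, B))⁻¹ ∈ (Rad (form F (m + 1)) P).comap (actH (m + 1) F) := by
    intro r hr
    rw [Subgroup.mem_comap] at hr ⊢
    rw [map_mul, map_mul, map_inv, ← hY]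
    exact Rad.conj (by rw [hY]; exact actH_iso _) hYP hr
  obtain ⟨r, -, e⟩ := conj_of_fpf ((Rad (form F (m + 1)) P).comap (actH (m + 1) F)) (em (M, B)) hconj
    (fun r hr hc => by
      apply actH_inj
      rw [map_one]
      exact fpf_Rad form_alt form_nond oQQ oPP oPH oHQ htop (Z := Y) f hf0 hfi hr (by
        rw [hY, ← map_mul, ← map_mul, hc])) (em (M, B) * up S hS * (em (M, B))⁻¹) (hconj _ hu)
  refine ⟨r, ?_⟩
  rw [← e]
  group

end emb

end Cfsg.Agent.H140.TC.Sp
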