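import Cfsg.Agent.H140.TC.SpOdd
import Cfsg.Agent.H140.TC.Fam
import Cfsg.Prelude.Def_Classical

/-!
# S4173, the groups `PSp_2m(F)` (two fixed classes)
-/

set_option autoImplicit false

namespace Cfsg.Agent.H140.TC.Sp

open Module Matrix Polynomial Cfsg.Agent.H962.PP Cfsg.Agent.H126.PwO Cfsg.Agent.H140.OreO

variable {F : Type*} [Field F] {n k : ℕ}

theorem card_ge [Finite F] (h2 : (2 : F) ≠ 0) : 3 ≤ Nat.card F := by
  have := Fintype.ofFinite F
  have h1 := card_odd h2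
  have h3 : 2 ≤ Nat.card F := Finite.one_lt_card
  rw [Nat.card_eq_fintype_card] at h3 ⊢
  omega

theorem exists_f2 (F : Type*) [Field F] [Finite F] (h2 : (2 : F) ≠ 0) {k : ℕ} (hex : 1 ≤ k ∨ ∃ t : F, t ≠ 0 ∧ t ^ 2 ≠ 1)
    {h : F[X]} (hirr : Irreducible h) (hm : h.Monic) (hd : h.natDegree = 2) (h0 : h.coeff 0 = 1) :
    ∃ f : F[X], RP (k + 1) f ∧ f.coeff 0 ≠ 0 ∧ f.eval 1 ≠ 0 ∧ IsCoprime f h := by
  have hq := card_ge h2
  rcases Nat.eq_zero_or_pos k with rfl | hk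
  · obtain ⟨t, ht0, ht⟩ : ∃ t : F, t ≠ 0 ∧ t ^ 2 ≠ 1 := by
      rcases hex with h | h
      · omega
      · exact h
    refine ⟨X - C t, ⟨monic_X_sub_C t, irreducible_X_sub_C t, natDegree_X_sub_C t, ?_⟩, ?_, ?_, ?_⟩
    · rw [(irreducible_X_sub_C t).coprime_iff_not_dvd, dvd_iff_isRoot, IsRoot, reverse_lin]
      simp only [eval_sub, eval_mul, eval_C, eval_X, eval_one]
      intro h1
      apply ht
      linear_combination -h1
    · rw [coeff_sub, coeff_X_zero, coeff_C_zero, zero_sub]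
      exact neg_ne_zero.2 ht0
    · rw [eval_sub, eval_X, eval_C]
      intro h1
      apply ht
      rw [← sub_eq_zero.1 h1, one_pow]
    · rw [(irreducible_X_sub_C t).coprime_iff_not_dvd, dvd_iff_isRoot]
      exact eval_ne_zero hirr (by omega) t
  · obtain ⟨f, hf, hN⟩ := exists_rp_gen F (show 2 ≤ k + 1 by omega) (Or.inr hq)
    refine ⟨f, hf, hf.coeff_ne (by omega), hf.eval_ne (by omega) 1, cop_chi hf.irr hm hd h0 ?_⟩
    rcases Nat.lt_or_ge 1 k with h | h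
    · left; rw [hf.deg]; omega
    · right
      have hk1 : k = 1 := by omega
      subst hk1
      refine ⟨hf.deg, ?_⟩
      rw [hf.monic.leadingCoeff]
      intro h1
      have h3 := (hN 1).1 (by rw [h1]; norm_num)
      have := Nat.le_of_dvd Nat.one_pos h3
      omega

/-- **`Sp`, odd characteristic** -/
theorem two_sp_odd [Finite F] (h2 : (2 : F) ≠ 0) (hex : 1 ≤ k ∨ ∃ t : F, t ≠ 0 ∧ t ^ 2 ≠ 1) :
    ∃ x₀ y₀ : G (k + 2) F, ∀ g : G (k + 2) F, g ∉ Subgroup.center (G (k + 2) F) →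
      ∃ u v : G (k + 2) F, g = (u * x₀ * u⁻¹) * (v * y₀ * v⁻¹) := by
  have hq := card_ge h2
  obtain ⟨t₀, ht₀⟩ := exists_quad F
  obtain ⟨h, hh⟩ : ∃ h : F[X], h = X ^ 2 - C t₀ * X + 1 := ⟨_, rfl⟩
  rw [← hh] at ht₀
  have hcp : ∀ M : Matrix (Fin 2) (Fin 2) F, M.det = 1 → M.trace = t₀ → M.charpoly = h := by
    intro M h1 h3
    rw [Matrix.charpoly_fin_two, h1, h3, C_1, hh]
  obtain ⟨M₀, hM₀⟩ : ∃ M₀ : SpecialLinearGroup (Fin 2) F, (M₀ : Matrix (Fin 2) (Fin 2) F) = !![0, -1; 1, t₀] :=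
    ⟨⟨!![0, -1; 1, t₀], by rw [Matrix.det_fin_two_of]; ring⟩, rfl⟩
  have hM₀c : (M₀ : Matrix (Fin 2) (Fin 2) F).charpoly = h := hcp _ M₀.det_coe (by
    rw [hM₀, Matrix.trace_fin_two_of]; ring)
  have hdeg : h.natDegree = 2 := by
    rw [← hM₀c, Matrix.charpoly_natDegree_eq_dim, Fintype.card_fin]
  have hmon : h.Monic := by rw [← hM₀c]; exact Matrix.charpoly_monic _
  have hc0 : h.coeff 0 = 1 := by rw [hh]; simp [coeff_one]
  obtain ⟨f₁, hf₁, -⟩ := exists_rp_gen F (show 2 ≤ k + 2 by omega) (Or.inr hq)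
  obtain ⟨f₂, hf₂, hf₂0, hf₂1, hf₂h⟩ := exists_f2 F h2 hex ht₀ hmon hdeg hc0
  obtain ⟨X₀, hX₀f, hX₀, -⟩ := exists_mat (d := k + 2) (by omega) hf₁
  obtain ⟨B₀, hB₀f⟩ : ∃ B₀ : Matrix (Fin (k + 1)) (Fin (k + 1)) F, B₀.charpoly = f₂ := by
    obtain ⟨B, hB⟩ := exists_matrix f₂ hf₂.monic hf₂0 hf₂.deg
    exact ⟨B, hB⟩
  have hB₀ : Cyc B₀ := cyc_of_irr (by omega) (by rw [hB₀f]; exact hf₂.irr)
  have hXd : X₀.det ≠ 0 := det_ne_zero_iff.2 (by rw [hX₀f]; exact hf₁.coeff_ne (by omega))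
  have hBd : B₀.det ≠ 0 := det_ne_zero_iff.2 (by rw [hB₀f]; exact hf₂0)
  obtain ⟨X, hX⟩ := exists_gl hXd
  obtain ⟨B, hB⟩ := exists_gl hBd
  obtain ⟨Z, hZ⟩ : ∃ Z : GL (Fin (k + 2)) F, (Z : Matrix (Fin (k + 2)) (Fin (k + 2)) F) = blk 1 B₀ :=
    exists_gl (by rw [blk_det, one_mul]; exact hBd)
  refine ⟨lv X, em (M₀, B), fun g hg => ?_⟩
  obtain ⟨t, A, C₁, D₁, E₁, htg, hC, hAdet, hAns⟩ := exists_corner (by omega) hg
    (Δ := X₀.det * (1 * B₀.det)) (mul_ne_zero hXd (mul_ne_zero one_ne_zero hBd))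
  have hAd : A.det ≠ 0 := by rw [hAdet]; exact mul_ne_zero hXd (mul_ne_zero one_ne_zero hBd)
  obtain ⟨R, hR⟩ := exists_gl hAd
  obtain ⟨T, S, hT, hS, e, hCS, -⟩ := gauss htg R hR
  have hS0 : S ≠ 0 := by
    rintro rfl
    exact hC (by rw [hCS, Matrix.mul_zero])
  -- the covector
  obtain ⟨φ, hφS, hφA⟩ := exists_aniso h2 (Matrix.toBilin' S) (fun x y => by
    rw [Matrix.toBilin'_apply', Matrix.toBilin'_apply', dotProduct_comm, Matrix.dotProduct_mulVec, ← Matrix.mulVec_transpose,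
      hS, dotProduct_comm]) (by
    intro h0
    apply hS0
    apply Matrix.toBilin'.injective
    rw [h0, map_zero]) (Matrix.vecMulLinear A) (fun c => by
    by_contra hcon
    push Not at hcon
    apply hAns c
    ext i j
    have h3 := congrFun (hcon (Pi.single i 1)) j
    rw [Matrix.vecMulLinear_apply, Matrix.single_one_vecMul] at h3
    rw [scalar_apply, diagonal_apply]
    change A i j = _ at h3
    rw [h3, Pi.smul_apply, Pi.single_apply, smul_eq_mul]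
    by_cases hij : i = j
    · simp [hij]
    · simp [hij, Ne.symm hij]) (by
    rw [Module.finrank_fintype_fun_eq_card, Fintype.card_fin]
    rcases hex with h | h
    · left; omega
    · exact Or.inr h)
  rw [Matrix.toBilin'_apply'] at hφS
  rw [Matrix.vecMulLinear_apply] at hφA
  have hφ0 : φ ≠ 0 := by
    rintro rfl
    exact hφS (by simp)
  obtain ⟨P, Q, hP, hQ, hPQ, a, ha0, haQ⟩ := exists_mul_conj_phi A hφ0 hφA X₀ hX₀ hXd B₀ hB₀ hBd 1 one_ne_zero
    (by rw [hB₀f]; exact hf₂1) hAdet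
  obtain ⟨P', hP'⟩ := exists_gl hP.ne_zero
  obtain ⟨Q', hQ'⟩ := exists_gl hQ.ne_zero
  have hinv : ∀ (W : Matrix (Fin (k + 2)) (Fin (k + 2)) F) (W' : GL (Fin (k + 2)) F),
      (W' : Matrix (Fin (k + 2)) (Fin (k + 2)) F) = W → ((W'⁻¹ : GL (Fin (k + 2)) F) : Matrix _ _ F) = W⁻¹ := by
    intro W W' h
    rw [← h]
    exact (Matrix.coe_units_inv W')
  have hRe : R = (P' * X * P'⁻¹) * (Q' * Z * Q'⁻¹) := by
    apply Units.ext
    simp only [Units.val_mul]
    rw [hR, hPQ, hinv P P' hP', hinv Q Q' hQ', hP', hQ', hX, hZ]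
  -- the symmetric matrix in the new coordinates
  obtain ⟨S', hS'⟩ : ∃ S', S' = ((Q'⁻¹ : GL (Fin (k + 2)) F) : Matrix (Fin (k + 2)) (Fin (k + 2)) F) * S *
    ((Q'⁻¹ : GL (Fin (k + 2)) F) : Matrix (Fin (k + 2)) (Fin (k + 2)) F)ᵀ := ⟨_, rfl⟩
  have hS's : S'ᵀ = S' := by
    rw [hS', transpose_mul, transpose_mul, transpose_transpose, hS, Matrix.mul_assoc]
  have hupS : (lv Q')⁻¹ * up S hS * lv Q' = up S' hS's := by
    have h3 := lv_up Q'⁻¹ hS
    rw [map_inv, inv_inv] at h3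
    rw [h3]
    exact up_congr _ hS'.symm
  have hσ : S' 0 0 ≠ 0 := by
    have h3 : (Pi.single 0 1 : Fin (k + 2) → F) ᵥ* ((Q'⁻¹ : GL (Fin (k + 2)) F) : Matrix _ _ F) = a⁻¹ • φ := by
      have h4 : (Pi.single 0 a : Fin (k + 2) → F) = a • (Pi.single 0 1 : Fin (k + 2) → F) := by
        rw [← Pi.single_smul, smul_eq_mul, mul_one]
      have h5 : (Pi.single 0 1 : Fin (k + 2) → F) = a⁻¹ • (φ ᵥ* Q) := by
        rw [haQ, h4, smul_smul, inv_mul_cancel₀ ha0, one_smul]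
      rw [h5, Matrix.smul_vecMul, hinv Q Q' hQ', Matrix.vecMul_vecMul, Matrix.mul_nonsing_inv _ hQ,
        Matrix.vecMul_one]
    have h4 : S' 0 0 = (a⁻¹ • φ) ⬝ᵥ (S *ᵥ (a⁻¹ • φ)) := by
      rw [← h3, hS', Matrix.mul_assoc, Matrix.mul_apply_eq_vecMul, Matrix.single_one_vecMul, Matrix.vecMul,
        dotProduct, dotProduct]
      exact Finset.sum_congr rfl fun i _ => rfl
    rw [h4, Matrix.mulVec_smul, dotProduct_smul, smul_dotProduct, smul_eq_mul, smul_eq_mul]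
    exact mul_ne_zero (inv_ne_zero ha0) (mul_ne_zero (inv_ne_zero ha0) hφS)
  obtain ⟨σ, hσe⟩ : ∃ σ, σ = S' 0 0 := ⟨_, rfl⟩
  rw [← hσe] at hσ
  -- the parameter
  obtain ⟨ν, hν⟩ : ∃ ν, ν = (t₀ - 2) / σ := ⟨_, rfl⟩
  obtain ⟨M, hM⟩ : ∃ M : SpecialLinearGroup (Fin 2) F, (M : Matrix (Fin 2) (Fin 2) F) =
      !![1, 1 * σ; ν * 1, ν * 1 * σ + 1⁻¹] := ⟨⟨_, by rw [Matrix.det_fin_two_of, inv_one]; ring⟩, rfl⟩
  have hMc : (M : Matrix (Fin 2) (Fin 2) F).charpoly = h := hcp _ M.det_coe (by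
    rw [hM, Matrix.trace_fin_two_of, hν, inv_one]
    field_simp
    ring)
  have hbs : ∀ x : F, (blk x (0 : Matrix (Fin (k + 1)) (Fin (k + 1)) F))ᵀ = blk x 0 := fun x => by
    rw [blk_transpose, transpose_zero]
  have hS''s : (S' - blk σ 0)ᵀ = S' - blk σ 0 := by rw [transpose_sub, hS's, hbs]
  have hup2 : up S' hS's = up (blk σ 0) (hbs σ) * up (S' - blk σ 0) hS''s := by
    rw [up_mul]
    exact up_congr _ (by abel)
  have hem := em_eq (ν := ν) (c := (1 : F)) (σ := σ) one_ne_zero (B := B) (Z := Z) (by rw [hZ, hB]) (M := M)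
    (by rw [hM]; rfl) (by rw [hM]; rfl) (by rw [hM]; rfl) (by rw [hM]; rfl)
  obtain ⟨r₁, hr₁⟩ := conj_em_up (M := M) (B := B) (by rw [hB, hB₀f]; exact hf₂.cop)
    (by rw [hB, hB₀f, hMc]; exact hf₂h) hS''s (by
      rw [Matrix.sub_apply, blk_zero_zero, hσe, sub_self])
  obtain ⟨W, hWd, hW⟩ := conj_two h2 (M := M) (M₀ := M₀) (cyc_of_irr (by norm_num) (by rw [hMc]; exact ht₀))
    (cyc_of_irr (by norm_num) (by rw [hM₀c]; exact ht₀)) M₀.det_coe (by rw [hMc, hM₀c]) (by rw [hM₀c]; exact ht₀)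
  obtain ⟨W', hW'⟩ : ∃ W' : SpecialLinearGroup (Fin 2) F, W'.1 = W := ⟨⟨W, hWd⟩, rfl⟩
  have hWM : M = W' * M₀ * W'⁻¹ := by
    rw [eq_mul_inv_iff_mul_eq]
    apply Subtype.ext
    show M.1 * W'.1 = W'.1 * M₀.1
    rw [hW']
    exact hW.symm
  have hemM : em (M, B) = em (W', 1) * em (M₀, B) * (em (W', 1))⁻¹ := by
    rw [← map_inv, ← map_mul, ← map_mul]
    congr 1
    ext1
    · exact hWM
    · show B = 1 * B * 1⁻¹
      group
  -- the two factors
  obtain ⟨l, hl⟩ : ∃ l, l = lv Q' * lo (blk ν 0) (hbs ν) * (lv Q')⁻¹ := ⟨_, rfl⟩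
  have hlm : l ∈ Lo (k + 2) F := by rw [hl]; exact Lo_conj Q' (lo_mem _)
  obtain ⟨r₂, hr₂⟩ := conj_lo_lv (X := P' * X * P'⁻¹) (by
    have h3 : ((P' * X * P'⁻¹ : GL (Fin (k + 2)) F) : Matrix (Fin (k + 2)) (Fin (k + 2)) F).charpoly = f₁ := by
      simp only [Units.val_mul]
      rw [Matrix.charpoly_mul_comm, ← Matrix.mul_assoc, ← Units.val_mul, inv_mul_cancel, Units.val_one, Matrix.one_mul,
        hX, hX₀f]
    rw [h3]
    exact hf₁.cop) (lo_mem hT) (inv_mem hlm)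
  have e2 : t * g * t⁻¹ = (lo T hT * lv (P' * X * P'⁻¹) * l⁻¹) * (l * lv (Q' * Z * Q'⁻¹) * up S hS) := by
    rw [e, hRe, map_mul]; group
  have e3 : l * lv (Q' * Z * Q'⁻¹) * up S hS = (lv Q' * r₁ * em (W', 1)) * em (M₀, B) * (lv Q' * r₁ * em (W', 1))⁻¹ := by
    have h3 : l * lv (Q' * Z * Q'⁻¹) * up S hS =
        lv Q' * (lo (blk ν 0) (hbs ν) * lv Z * ((lv Q')⁻¹ * up S hS * lv Q')) * (lv Q')⁻¹ := by
      rw [hl]; simp only [map_mul, map_inv]; group
    rw [h3, hupS, hup2, ← mul_assoc (lo (blk ν 0) (hbs ν) * lv Z), hem, hr₁, hemM]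
    group
  have e4 : g = t⁻¹ * (t * g * t⁻¹) * t := by group
  refine ⟨t⁻¹ * r₂ * lv P', t⁻¹ * (lv Q' * r₁ * em (W', 1)), ?_⟩
  rw [e4, e2, hr₂, e3]
  simp only [map_mul, map_inv]
  group

section Even

open Cfsg.Agent.H144 Cfsg.Agent.H649.PwSp Cfsg.Agent.S2445

/-! ### characteristic two -/

theorem c1_even [Finite F] (h2 : (2 : F) = 0) (g : G n F) : C1 (form F n) (actH n F g) := by
  obtain ⟨P, Q, R, -, -, -, -, -, -, -, -, -, hsup, hC, hex, -⟩ :=
    exists_dec (form_alt (F := F) (m := n)) (actH_iso g) _ ⊤ (fun v _ => trivial)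
      (fun v _ h => form_nond v (fun w => h w trivial)) rfl
  rcases hex with ⟨h3, h4⟩ | ⟨h3, -⟩
  · rw [h3, h4, sup_bot_eq, sup_bot_eq] at hsup
    rw [hsup] at hC
    obtain ⟨W, W', k1, k2, k3, k4⟩ := hC
    exact ⟨W, W', k1, k2, k3, k4⟩
  · exact absurd h2 h3

/-- Lagrangian decompositions are conjugate -/
theorem exists_frame {P Q : Submodule F (Fin n ⊕ Fin n → F)} (hP : Orth (form F n) P P) (hQ : Orth (form F n) Q Q)
    (hPQ : P ⊔ Q = ⊤) : ∃ t : G n F, (∀ a : Fin n → F, actH n F t (Sum.elim a 0) ∈ P) ∧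
      (∀ b : Fin n → F, actH n F t (Sum.elim 0 b) ∈ Q) ∧
      ∀ v ∈ Q, ∃ b : Fin n → F, actH n F t (Sum.elim 0 b) = v := by
  classical
  have hfV : finrank F (Fin n ⊕ Fin n → F) = 2 * n := by
    rw [Module.finrank_fintype_fun_eq_card, Fintype.card_sum, Fintype.card_fin]; ring
  have hf2 := finrank_two (form_alt (F := F) (m := n)) form_nond hP hQ hPQ
  have hfP : finrank F P = n := by omega
  have hfQ : finrank F Q = n := by rw [← finrank_eq form_alt form_nond hP hQ hPQ, hfP]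
  let p : Basis (Fin n) F P := finBasisOfFinrankEq F P hfP
  let e₀ : Q →ₗ[F] Module.Dual F P := ((form F n).compl₁₂ P.subtype Q.subtype).flip
  have he₀ : Function.Injective e₀ := by
    rw [← LinearMap.ker_eq_bot, LinearMap.ker_eq_bot']
    intro q hq
    have : (q : Fin n ⊕ Fin n → F) = 0 := by
      apply eq_zero_of_orth form_nond hPQ _ (hQ q q.2)
      intro w hw
      have := LinearMap.congr_fun hq ⟨w, hw⟩
      exact form_alt.zero this
    exact Subtype.ext this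
  let e : Q ≃ₗ[F] Module.Dual F P := LinearEquiv.ofInjectiveOfFinrankEq e₀ he₀ (by
    rw [Subspace.dual_finrank_eq, hfP, hfQ])
  have he : ∀ (q : Q) (x : P), e q x = form F n x q := fun q x => rfl
  let q : Fin n → Q := fun j => e.symm (-(p.coord j))
  have hpq : ∀ i j, form F n (p i) (q j) = -(if i = j then 1 else 0) := by
    intro i j
    rw [← he]
    show e (e.symm (-(p.coord j))) (p i) = _
    rw [e.apply_symm_apply, LinearMap.neg_apply, Basis.coord_apply, p.repr_self, Finsupp.single_apply]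
  let w : Fin n ⊕ Fin n → (Fin n ⊕ Fin n → F) := Sum.elim (fun i => (p i : Fin n ⊕ Fin n → F))
    (fun j => (q j : Fin n ⊕ Fin n → F))
  have hw : ∀ s t, form F n (w s) (w t) = Matrix.J (Fin n) F s t := by
    rintro (i | i) (j | j)
    · show form F n (p i) (p j) = _
      rw [hP _ (p i).2 _ (p j).2]; simp [Matrix.J]
    · show form F n (p i) (q j) = _
      rw [hpq]; simp [Matrix.J, Matrix.one_apply]
    · show form F n (q i) (p j) = _
      rw [form_alt.neg, hpq]; simp [Matrix.J, Matrix.one_apply, eq_comm]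
    · show form F n (q i) (q j) = _
      rw [hQ _ (q i).2 _ (q j).2]; simp [Matrix.J]
  let T : (Fin n ⊕ Fin n → F) →ₗ[F] (Fin n ⊕ Fin n → F) := Fintype.linearCombination F w
  have hT : ∀ v, T v = ∑ s, v s • w s := fun v => Fintype.linearCombination_apply F w v
  have hTf : ∀ x y, form F n (T x) (T y) = form F n x y := by
    have h1 : (form F n).comp T T = form F n := by
      apply (Pi.basisFun F (Fin n ⊕ Fin n)).ext
      intro s
      apply (Pi.basisFun F (Fin n ⊕ Fin n)).ext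
      intro t
      have h3 : ∀ s, T (Pi.single s 1) = w s := fun s => by
        rw [hT, Finset.sum_eq_single s]
        · simp
        · intro j _ hj
          rw [Pi.single_eq_of_ne hj, zero_smul]
        · intro h; exact absurd (Finset.mem_univ s) h
      rw [LinearMap.BilinForm.comp_apply, Pi.basisFun_apply, Pi.basisFun_apply, h3, h3, hw, form,
        Matrix.toBilin'_single]
    intro x y
    rw [← LinearMap.BilinForm.comp_apply, h1]
  have hTi : Function.Injective T := by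
    rw [← LinearMap.ker_eq_bot, LinearMap.ker_eq_bot']
    intro x hx
    apply form_nond x
    intro y
    rw [← hTf, hx, map_zero, LinearMap.zero_apply]
  let T' : (Fin n ⊕ Fin n → F) ≃ₗ[F] (Fin n ⊕ Fin n → F) := LinearEquiv.ofInjectiveEndo T hTi
  have hT' : ∀ v, T' v = T v := fun v => rfl
  have hTiso : Iso (form F n) T' := fun x y => hTf x y
  obtain ⟨t, ht⟩ : ∃ t : G n F, ∀ v, actH n F t v = T v := by
    refine ⟨⟨_, mem_of_iso hTiso⟩, fun v => ?_⟩
    rw [actH_apply, LinearMap.toMatrix'_mulVec]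
    rfl
  have h1 : ∀ a : Fin n → F, T (Sum.elim a 0) ∈ P := by
    intro a
    rw [hT, Fintype.sum_sum_type]
    simp only [Sum.elim_inl, Sum.elim_inr, Pi.zero_apply, zero_smul, Finset.sum_const_zero, add_zero]
    exact Submodule.sum_mem _ fun i _ => P.smul_mem _ (p i).2
  have h3 : ∀ b : Fin n → F, T (Sum.elim 0 b) ∈ Q := by
    intro a
    rw [hT, Fintype.sum_sum_type]
    simp only [Sum.elim_inl, Sum.elim_inr, Pi.zero_apply, zero_smul, Finset.sum_const_zero, zero_add]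
    exact Submodule.sum_mem _ fun i _ => Q.smul_mem _ (q i).2
  refine ⟨t, fun a => by rw [ht]; exact h1 a, fun b => by rw [ht]; exact h3 b, fun v hv => ?_⟩
  obtain ⟨a, b, hab⟩ : ∃ a b : Fin n → F, T'.symm v = Sum.elim a b :=
    ⟨T'.symm v ∘ Sum.inl, T'.symm v ∘ Sum.inr, by simp⟩
  have h4 : T (Sum.elim a b) = v := by
    rw [← hab]
    exact T'.apply_symm_apply v
  have h5 : a = 0 := by
    ext j
    have h6 := hTf (Sum.elim a b) (Sum.elim 0 (Pi.single j 1))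
    rw [h4, hQ v hv _ (h3 _), form_elim] at h6
    simpa using h6
  refine ⟨b, ?_⟩
  rw [ht, ← h4, h5]

/-- every element is conjugate to a product `lo * up` -/
theorem exists_lo_up [Finite F] (h2 : (2 : F) = 0) (g : G n F) : ∃ (t : G n F) (T S : Matrix (Fin n) (Fin n) F)
    (hT : Tᵀ = T) (hS : Sᵀ = S), t * g * t⁻¹ = lo T hT * up S hS := by
  obtain ⟨P, Q, hP, hQ, hPQ, hg⟩ := c1_even h2 g
  obtain ⟨t, h1, h3, h4⟩ := exists_frame hP hQ hPQ
  obtain ⟨A, B, C, D, h⟩ : ∃ A B C D : Matrix (Fin n) (Fin n) F,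
      ((t⁻¹ * g * t : G n F) : Matrix _ _ F) = fromBlocks A B C D := ⟨_, _, _, _, (fromBlocks_toBlocks _).symm⟩
  have hA : A = 1 := by
    have key : ∀ a : Fin n → F, A *ᵥ a = a := by
      intro a
      have h5 := hg _ (h1 a)
      obtain ⟨b, hb⟩ := h4 _ h5
      have h6 : actH n F (t⁻¹ * g * t) (Sum.elim a 0) = Sum.elim a 0 + Sum.elim (0 : Fin n → F) b := by
        have h7 : actH n F g (actH n F t (Sum.elim a 0)) = actH n F t (Sum.elim a 0 + Sum.elim (0 : Fin n → F) b) := by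
          rw [map_add, hb]; abel
        rw [map_mul, map_mul, map_inv, LinearEquiv.mul_apply, LinearEquiv.mul_apply, h7]
        exact (actH n F t).symm_apply_apply _
      rw [actH_apply, h, fromBlocks_mulVec, Sum.elim_comp_inl, Sum.elim_comp_inr] at h6
      ext i
      have h7 := congrFun h6 (Sum.inl i)
      simpa using h7
    apply Matrix.toLin'.injective
    apply LinearMap.ext
    intro a
    rw [toLin'_apply, toLin'_apply, key, Matrix.one_mulVec]
  obtain ⟨T, S, hT, hS, e, -, -⟩ := gauss h 1 (by rw [hA]; rfl)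
  refine ⟨t⁻¹, T, S, hT, hS, ?_⟩
  rw [inv_inv, e, map_one, mul_one]

/-- **`Sp`, characteristic two** -/
theorem two_sp_even [Finite F] (h2 : (2 : F) = 0) (hn : 2 ≤ n) (hex : 3 ≤ n ∨ 3 ≤ Nat.card F) :
    ∃ x₀ y₀ : G n F, ∀ g : G n F, ∃ u v : G n F, g = (u * x₀ * u⁻¹) * (v * y₀ * v⁻¹) := by
  obtain ⟨f, hf, -⟩ := exists_rp_gen F hn hex
  obtain ⟨X₀, hX₀f, hX₀, -⟩ := exists_mat (d := n) hn hf
  have hXd : X₀.det ≠ 0 := det_ne_zero_iff.2 (by rw [hX₀f]; exact hf.coeff_ne hn)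
  obtain ⟨X, hX⟩ := exists_gl hXd
  have hcop : IsCoprime (X : Matrix (Fin n) (Fin n) F).charpoly (X : Matrix (Fin n) (Fin n) F).charpoly.reverse := by
    rw [hX, hX₀f]; exact hf.cop
  refine ⟨lv X, (lv X)⁻¹, fun g => ?_⟩
  obtain ⟨t, T, S, hT, hS, e⟩ := exists_lo_up h2 g
  obtain ⟨r, hr⟩ := conj_lo_lv hcop (lo_mem hT) (one_mem _)
  obtain ⟨s, hs⟩ := conj_up_lv hcop (inv_mem (up_mem hS)) (one_mem _)
  rw [mul_one] at hr hs
  have hs' : (lv X)⁻¹ * up S hS = s * (lv X)⁻¹ * s⁻¹ := by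
    have := congrArg (fun x => x⁻¹) hs
    simp only [_root_.mul_inv_rev, inv_inv] at this
    rw [this]
    group
  refine ⟨t⁻¹ * r, t⁻¹ * s, ?_⟩
  have e2 : g = t⁻¹ * ((lo T hT * lv X) * ((lv X)⁻¹ * up S hS)) * t := by
    have e3 : (lo T hT * lv X) * ((lv X)⁻¹ * up S hS) = t * g * t⁻¹ := by rw [e]; group
    rw [e3]; group
  rw [e2, hr, hs']
  group

end Even

/-! ### the groups -/

theorem tc_of_two_sp {m : ℕ} (h : ∃ x₀ y₀ : G m F, ∀ g : G m F, g ∉ Subgroup.center (G m F) →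
    ∃ u v : G m F, g = (u * x₀ * u⁻¹) * (v * y₀ * v⁻¹)) : TC (Cfsg.PSp m F) := by
  obtain ⟨x₀, y₀, h⟩ := h
  refine ⟨QuotientGroup.mk x₀, QuotientGroup.mk y₀, fun g hg => ?_⟩
  obtain ⟨g, rfl⟩ := QuotientGroup.mk_surjective g
  obtain ⟨u, v, e⟩ := h g (fun hc => hg ((QuotientGroup.eq_one_iff g).2 hc))
  refine ⟨QuotientGroup.mk u, QuotientGroup.mk v, ?_⟩
  conv_lhs => rw [e]
  rfl

end Cfsg.Agent.H140.TC.Sp

namespace Cfsg.Agent.H140.TC

open Cfsg.Agent.H140.TC.Sp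

/-- **`PSp_2m(F)`**, except `PSp_4(3)` -/
theorem tc_psp {m : ℕ} (hm : 2 ≤ m) (F : Type*) [Field F] [Finite F] (hex : 3 ≤ m ∨ 4 ≤ Nat.card F) :
    TC (Cfsg.PSp m F) := by
  apply tc_of_two_sp
  by_cases h2 : (2 : F) = 0
  · obtain ⟨x₀, y₀, h⟩ := two_sp_even (n := m) h2 hm (by omega)
    exact ⟨x₀, y₀, fun g _ => h g⟩
  · obtain ⟨k, rfl⟩ : ∃ k, m = k + 2 := ⟨m - 2, by omega⟩
    refine two_sp_odd h2 ?_
    rcases hex with h | h
    · left; omega
    · right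
      by_contra hcon
      push Not at hcon
      classical
      have := Fintype.ofFinite F
      have h1 : (Finset.univ : Finset F) ⊆ {0, 1, -1} := by
        intro x _
        simp only [Finset.mem_insert, Finset.mem_singleton]
        by_cases hx : x = 0
        · exact Or.inl hx
        · right
          have h2 := hcon x hx
          have h3 : (x - 1) * (x + 1) = 0 := by linear_combination h2
          rcases mul_eq_zero.1 h3 with h | h
          · exact Or.inl (sub_eq_zero.1 h)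
          · exact Or.inr (eq_neg_of_add_eq_zero_left h)
      have h2 := Finset.card_le_card h1
      rw [Finset.card_univ, ← Nat.card_eq_fintype_card] at h2
      have h3 : ({0, 1, -1} : Finset F).card ≤ 3 := Finset.card_le_three
      omega

end Cfsg.Agent.H140.TC
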